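import Mathlib

set_option autoImplicit false

namespace Cfsg.Agent.Lib.Helper2.PermEmb

/-- A group of order `n!` embedding in the symmetric group on `n` letters is the symmetric group. -/
theorem nonempty_mulEquiv_perm {G : Type*} [Group G] {α : Type*} [Finite α] (n : ℕ)
    (hα : Nat.card α = n) (f : G →* Equiv.Perm α) (hf : Function.Injective f)
    (hcard : Nat.card G = n.factorial) : Nonempty (G ≃* Equiv.Perm (Fin n)) := by
  classical
  have : Fintype α := Fintype.ofFinite α
  have e : α ≃ Fin n := (Finite.equivFinOfCardEq hα)
  let f' : G →* Equiv.Perm (Fin n) := (e.permCongrHom : Equiv.Perm α →* Equiv.Perm (Fin n)).comp f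
  have hf' : Function.Injective f' := by
    intro a b hab
    apply hf
    exact e.permCongrHom.injective hab
  have hfin : Finite G := Nat.finite_of_card_ne_zero (by rw [hcard]; exact Nat.factorial_ne_zero n)
  have hbij : Function.Bijective f' := by
    rw [Nat.bijective_iff_injective_and_card]
    refine ⟨hf', ?_⟩
    rw [hcard, Nat.card_perm, Nat.card_fin]
  exact ⟨MulEquiv.ofBijective f' hbij⟩

/-- A group of order `n!/2` embedding in the symmetric group on `n` letters is the alternating
group. -/
theorem nonempty_mulEquiv_alternatingGroup {G : Type*} [Group G] {α : Type*} [Finite α] (n : ℕ)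
    (hα : Nat.card α = n) (f : G →* Equiv.Perm α) (hf : Function.Injective f)
    (hcard : 2 * Nat.card G = n.factorial) : Nonempty (G ≃* alternatingGroup (Fin n)) := by
  classical
  have : Fintype α := Fintype.ofFinite α
  have e : α ≃ Fin n := (Finite.equivFinOfCardEq hα)
  let f' : G →* Equiv.Perm (Fin n) := (e.permCongrHom : Equiv.Perm α →* Equiv.Perm (Fin n)).comp f
  have hf' : Function.Injective f' := by
    intro a b hab
    apply hf
    exact e.permCongrHom.injective hab
  have hGpos : 0 < Nat.card G := by
    rcases Nat.eq_zero_or_pos (Nat.card G) with h | h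
    · rw [h] at hcard
      exact absurd hcard.symm (Nat.factorial_ne_zero n)
    · exact h
  have hrange : Nat.card f'.range = Nat.card G :=
    (Nat.card_congr (MonoidHom.ofInjective hf').toEquiv).symm
  have hidx : f'.range.index = 2 := by
    have h1 := Subgroup.card_mul_index f'.range
    rw [hrange, Nat.card_perm, Nat.card_fin, ← hcard] at h1
    have h2 : Nat.card G * f'.range.index = Nat.card G * 2 := by rw [h1]; ring
    exact Nat.eq_of_mul_eq_mul_left hGpos h2
  have hr : f'.range = alternatingGroup (Fin n) :=
    Equiv.Perm.eq_alternatingGroup_of_index_eq_two hidx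
  exact ⟨(MonoidHom.ofInjective hf').trans (MulEquiv.subgroupCongr hr)⟩

end Cfsg.Agent.Lib.Helper2.PermEmb
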