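import Mathlib
import Cfsg.Agent.Lib.Helper2.PermEmb

set_option autoImplicit false

namespace Cfsg.Agent.Lib.Helper2.Simple60

/-- In a simple group the action on the cosets of a proper subgroup is faithful. -/
theorem inj_of_ne_top {G : Type*} [Group G] [IsSimpleGroup G] (H : Subgroup G) (hH : H ≠ ⊤) :
    Function.Injective (MulAction.toPermHom G (G ⧸ H)) := by
  rw [← MonoidHom.ker_eq_bot_iff, ← Subgroup.normalCore_eq_ker]
  rcases (Subgroup.Normal.eq_bot_or_eq_top (H := H.normalCore) inferInstance) with h | h
  · exact h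
  · exact absurd (top_le_iff.mp (h ▸ Subgroup.normalCore_le H)) hH

/-- A simple group with a proper subgroup of index `n` has order at most `n!`. -/
theorem card_le_factorial_index {G : Type*} [Group G] [Finite G] [IsSimpleGroup G] (H : Subgroup G)
    (hH : H ≠ ⊤) : Nat.card G ≤ (H.index).factorial := by
  have h1 := Nat.card_le_card_of_injective _ (inj_of_ne_top H hH)
  rwa [Nat.card_perm, ← Subgroup.index_eq_card] at h1

/-- Non-identity elements of a finite family of subgroups of the same order `m` with pairwise
trivial intersections: there are exactly `|ι| (m - 1)` of them. -/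
theorem card_ti_union {G : Type*} [Group G] [Fintype G] [DecidableEq G] {ι : Type*} [Fintype ι]
    (H : ι → Subgroup G) [∀ i, DecidablePred (fun g => g ∈ H i ∧ g ≠ 1)]
    (m : ℕ) (hm : ∀ i, Nat.card (H i) = m)
    (hTI : ∀ i j, i ≠ j → H i ⊓ H j = ⊥) :
    (Finset.univ.biUnion (fun i => (Finset.univ.filter (fun g => g ∈ H i ∧ g ≠ 1)))).card =
      Fintype.card ι * (m - 1) := by
  classical
  rw [Finset.card_biUnion]
  · have : ∀ i ∈ (Finset.univ : Finset ι),
        (Finset.univ.filter (fun g => g ∈ H i ∧ g ≠ 1)).card = m - 1 := by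
      intro i _
      have h1 : Finset.univ.filter (fun g => g ∈ H i ∧ g ≠ 1) =
          (Finset.univ.filter (fun g => g ∈ H i)).erase 1 := by
        ext g
        simp only [Finset.mem_filter, Finset.mem_univ, true_and, Finset.mem_erase]
        tauto
      rw [h1, Finset.card_erase_of_mem
        (Finset.mem_filter.mpr ⟨Finset.mem_univ _, (H i).one_mem⟩), ← hm i]
      congr 1
      rw [Nat.card_eq_fintype_card, Fintype.card_subtype]
    rw [Finset.sum_congr rfl this, Finset.sum_const, Finset.card_univ, smul_eq_mul]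
  · intro i _ j _ hij
    rw [Function.onFun, Finset.disjoint_left]
    intro g hgi hgj
    simp only [Finset.mem_filter, Finset.mem_univ, true_and] at hgi hgj
    have : g ∈ H i ⊓ H j := ⟨hgi.1, hgj.1⟩
    rw [hTI i j hij, Subgroup.mem_bot] at this
    exact hgi.2 this

theorem sylow_card_two {G : Type*} [Group G] [Finite G] (h : Nat.card G = 60) (P : Sylow 2 G) :
    Nat.card P = 4 := by
  obtain ⟨k, hk⟩ := IsPGroup.iff_card.mp P.2
  have h1 := Subgroup.card_mul_index (P : Subgroup G)
  have h2 := P.not_dvd_index
  rw [h, hk] at h1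
  have hk5 : k < 6 := by
    by_contra hk6
    have : 2 ^ 6 ≤ 2 ^ k := Nat.pow_le_pow_right (by norm_num) (by omega)
    have h3 : 2 ^ k ≤ 60 := Nat.le_of_dvd (by norm_num) ⟨_, h1.symm⟩
    omega
  have hk' : Nat.card (P : Subgroup G) = 2 ^ k := hk
  rw [hk']
  interval_cases k <;> omega

theorem sylow_card_five {G : Type*} [Group G] [Finite G] [Fact (Nat.Prime 5)]
    (h : Nat.card G = 60) (P : Sylow 5 G) :
    Nat.card P = 5 := by
  obtain ⟨k, hk⟩ := IsPGroup.iff_card.mp P.2
  have h1 := Subgroup.card_mul_index (P : Subgroup G)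
  have h2 := P.not_dvd_index
  rw [h, hk] at h1
  have hk5 : k < 3 := by
    by_contra hk6
    have : 5 ^ 3 ≤ 5 ^ k := Nat.pow_le_pow_right (by norm_num) (by omega)
    have h3 : 5 ^ k ≤ 60 := Nat.le_of_dvd (by norm_num) ⟨_, h1.symm⟩
    omega
  have hk' : Nat.card (P : Subgroup G) = 5 ^ k := hk
  rw [hk']
  interval_cases k <;> omega

/-- A simple group of order 60 is isomorphic to the alternating group of degree 5. -/
theorem simple_order_sixty {G : Type*} [Group G] [Finite G] [IsSimpleGroup G]
    (h : Nat.card G = 60) : Nonempty (G ≃* alternatingGroup (Fin 5)) := by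
  classical
  by_contra hne
  haveI : Fact (Nat.Prime 5) := ⟨by norm_num⟩
  have : Fintype G := Fintype.ofFinite G
  have hf24 : Nat.factorial 4 = 24 := by decide
  -- every proper subgroup has index at least 6
  have h6 : ∀ H : Subgroup G, H ≠ ⊤ → 6 ≤ H.index := by
    intro H hH
    by_contra hlt
    have hle : H.index ≤ 5 := by omega
    rcases Nat.lt_or_eq_of_le hle with h4 | h5
    · have := card_le_factorial_index H hH
      have h2 : (H.index).factorial ≤ Nat.factorial 4 := Nat.factorial_le (by omega)
      rw [h] at this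
      omega
    · apply hne
      apply Cfsg.Agent.Lib.Helper2.PermEmb.nonempty_mulEquiv_alternatingGroup 5
        (by rw [← Subgroup.index_eq_card]; exact h5) (MulAction.toPermHom G (G ⧸ H))
        (inj_of_ne_top H hH)
      rw [h]; decide
  -- hence order at most 10
  have h10 : ∀ H : Subgroup G, H ≠ ⊤ → Nat.card H ≤ 10 := by
    intro H hH
    have h1 := Subgroup.card_mul_index H
    have h2 := h6 H hH
    rw [h] at h1
    by_contra hgt
    have : 11 * 6 ≤ Nat.card H * H.index := Nat.mul_le_mul (by omega) h2
    omega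
  -- a proper subgroup containing a subgroup of order 4 has order 4
  have h4 : ∀ H : Subgroup G, H ≠ ⊤ → ∀ K : Subgroup G, K ≤ H → Nat.card K = 4 → K = H := by
    intro H hH K hKH hK
    have h1 := h10 H hH
    have h2 : Nat.card K ∣ Nat.card H := Subgroup.card_dvd_of_le hKH
    have h3 : Nat.card H ∣ 60 := h ▸ Subgroup.card_subgroup_dvd_card H
    rw [hK] at h2
    have h5 : Nat.card H = 4 := by
      obtain ⟨c, hc⟩ := h2
      have hc2 : c ≤ 2 := by omega
      have hpos : 0 < Nat.card H := Nat.card_pos
      interval_cases c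
      · omega
      · omega
      · rw [hc] at h3; norm_num at h3
    exact Subgroup.eq_of_le_of_card_ge hKH (by omega)
  -- no nontrivial proper normal subgroup
  have hnorm : ∀ K : Subgroup G, K.Normal → Nat.card K = 1 ∨ Nat.card K = 60 := by
    intro K hK
    rcases hK.eq_bot_or_eq_top with h1 | h1
    · left; rw [h1]; simp
    · right; rw [h1, Subgroup.card_top, h]
  -- Sylow 2-subgroups
  have hn2 : Nat.card (Sylow 2 G) = 15 := by
    obtain ⟨P⟩ : Nonempty (Sylow 2 G) := inferInstance
    have hP := sylow_card_two h P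
    have hN : Subgroup.normalizer ((P : Subgroup G) : Set G) ≠ ⊤ := by
      intro htop
      have : (P : Subgroup G).Normal := Subgroup.normalizer_eq_top_iff.mp htop
      rcases hnorm _ this with h1 | h1 <;> omega
    have h1 := h4 _ hN (P : Subgroup G) Subgroup.le_normalizer hP
    rw [Sylow.card_eq_index_normalizer P]
    change (Subgroup.normalizer ((P : Subgroup G) : Set G)).index = 15
    rw [← h1]
    have h2 := Subgroup.card_mul_index (P : Subgroup G)
    rw [h, hP] at h2
    omega
  have hn5 : 6 ≤ Nat.card (Sylow 5 G) := by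
    obtain ⟨P⟩ : Nonempty (Sylow 5 G) := inferInstance
    have hP := sylow_card_five h P
    have hN : Subgroup.normalizer ((P : Subgroup G) : Set G) ≠ ⊤ := by
      intro htop
      have : (P : Subgroup G).Normal := Subgroup.normalizer_eq_top_iff.mp htop
      rcases hnorm _ this with h1 | h1 <;> omega
    rw [Sylow.card_eq_index_normalizer P]
    change 6 ≤ (Subgroup.normalizer ((P : Subgroup G) : Set G)).index
    exact h6 _ hN
  -- trivial intersections
  have hTI5 : ∀ P Q : Sylow 5 G, P ≠ Q → (P : Subgroup G) ⊓ (Q : Subgroup G) = ⊥ := by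
    intro P Q hPQ
    have hP := sylow_card_five h P
    have hQ := sylow_card_five h Q
    have h1 : Nat.card ((P : Subgroup G) ⊓ (Q : Subgroup G) : Subgroup G) ∣ 5 := by
      have := Subgroup.card_dvd_of_le (inf_le_left : (P : Subgroup G) ⊓ (Q : Subgroup G) ≤ P)
      rwa [hP] at this
    rcases (Nat.dvd_prime (by norm_num : Nat.Prime 5)).mp h1 with h2 | h2
    · exact Subgroup.eq_bot_of_card_eq _ h2
    · exfalso
      have h3 : (P : Subgroup G) ⊓ (Q : Subgroup G) = P :=
        Subgroup.eq_of_le_of_card_ge inf_le_left (by omega)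
      have h4' : (P : Subgroup G) ≤ Q := by rw [← h3]; exact inf_le_right
      have h5 : (P : Subgroup G) = Q := Subgroup.eq_of_le_of_card_ge h4' (by omega)
      exact hPQ (Sylow.ext h5)
  have hTI2 : ∀ P Q : Sylow 2 G, P ≠ Q → (P : Subgroup G) ⊓ (Q : Subgroup G) = ⊥ := by
    intro P Q hPQ
    by_contra hne'
    obtain ⟨⟨t, ht⟩, ht1'⟩ := (Subgroup.ne_bot_iff_exists_ne_one).mp hne'
    have ht1 : t ≠ 1 := fun h0 => ht1' (Subtype.ext h0)
    have hP := sylow_card_two h P
    have hQ := sylow_card_two h Q
    have hcomm : ∀ R : Sylow 2 G, t ∈ (R : Subgroup G) →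
        (R : Subgroup G) ≤ Subgroup.centralizer ({t} : Set G) := by
      intro R htR x hx
      rw [Subgroup.mem_centralizer_iff]
      intro y hy
      rw [Set.mem_singleton_iff] at hy
      subst hy
      have hR : Nat.card (R : Subgroup G) = 2 ^ 2 := by rw [sylow_card_two h R]; norm_num
      haveI : Fact (Nat.Prime 2) := ⟨Nat.prime_two⟩
      have := IsPGroup.commutative_of_card_eq_prime_sq hR (⟨y, htR⟩ : (R : Subgroup G)) ⟨x, hx⟩
      exact congrArg Subtype.val this
    have hC : Subgroup.centralizer ({t} : Set G) ≠ ⊤ := by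
      intro htop
      have htc : t ∈ Subgroup.center G := by
        rw [Subgroup.mem_center_iff]
        intro g
        have : g ∈ Subgroup.centralizer ({t} : Set G) := htop ▸ Subgroup.mem_top g
        rw [Subgroup.mem_centralizer_iff] at this
        exact (this t rfl).symm
      have hcen : Subgroup.center G = ⊤ := by
        rcases (Subgroup.Normal.eq_bot_or_eq_top (H := Subgroup.center G) inferInstance) with h1 | h1
        · rw [h1, Subgroup.mem_bot] at htc
          exact absurd htc ht1
        · exact h1
      have hPn : (P : Subgroup G).Normal := by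
        constructor
        intro n hn g
        have hg : g ∈ Subgroup.center G := hcen ▸ Subgroup.mem_top g
        rw [Subgroup.mem_center_iff] at hg
        rw [← hg n, mul_inv_cancel_right]
        exact hn
      rcases hnorm _ hPn with h1 | h1 <;> omega
    have h1 := h4 _ hC (P : Subgroup G) (hcomm P ht.1) hP
    have h2 := h4 _ hC (Q : Subgroup G) (hcomm Q ht.2) hQ
    exact hPQ (Sylow.ext (h1.trans h2.symm))
  -- counting
  have : Fintype (Sylow 5 G) := Fintype.ofFinite _
  have : Fintype (Sylow 2 G) := Fintype.ofFinite _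
  have hA := card_ti_union (fun P : Sylow 5 G => (P : Subgroup G)) 5 (sylow_card_five h)
    (fun P Q hPQ => hTI5 P Q hPQ)
  have hB := card_ti_union (fun P : Sylow 2 G => (P : Subgroup G)) 4 (sylow_card_two h)
    (fun P Q hPQ => hTI2 P Q hPQ)
  set A := Finset.univ.biUnion (fun P : Sylow 5 G =>
    (Finset.univ.filter (fun g : G => g ∈ (P : Subgroup G) ∧ g ≠ 1))) with hAdef
  set B := Finset.univ.biUnion (fun P : Sylow 2 G =>
    (Finset.univ.filter (fun g : G => g ∈ (P : Subgroup G) ∧ g ≠ 1))) with hBdef
  have hdisj : Disjoint A B := by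
    rw [Finset.disjoint_left]
    intro g hgA hgB
    simp only [hAdef, hBdef, Finset.mem_biUnion, Finset.mem_filter, Finset.mem_univ, true_and]
      at hgA hgB
    obtain ⟨P, hgP, hg1⟩ := hgA
    obtain ⟨Q, hgQ, -⟩ := hgB
    have h5 : g ^ 5 = 1 := by
      have := pow_card_eq_one' (G := (P : Subgroup G)) (x := ⟨g, hgP⟩)
      rw [sylow_card_five h P] at this
      exact congrArg Subtype.val this
    have h4' : g ^ 4 = 1 := by
      have := pow_card_eq_one' (G := (Q : Subgroup G)) (x := ⟨g, hgQ⟩)
      rw [sylow_card_two h Q] at this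
      exact congrArg Subtype.val this
    apply hg1
    have : g ^ 5 = g ^ 4 * g := pow_succ g 4
    rw [h5, h4', one_mul] at this
    exact this.symm
  have hcard := Finset.card_le_univ (A ∪ B)
  rw [Finset.card_union_of_disjoint hdisj, hA, hB, ← Nat.card_eq_fintype_card,
    ← Nat.card_eq_fintype_card, ← Nat.card_eq_fintype_card, hn2, h] at hcard
  have : 6 * (5 - 1) ≤ Nat.card (Sylow 5 G) * (5 - 1) := Nat.mul_le_mul_right _ hn5
  omega

end Cfsg.Agent.Lib.Helper2.Simple60
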