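import Mathlib
import Cfsg.Agent.Lib.Helper2.Simple60
import Cfsg.Agent.S0219

set_option autoImplicit false

namespace Cfsg.Agent.Lib.Helper2.SimpleIndex

open Cfsg.Agent.Lib.Helper2.Simple60

variable {G : Type*} [Group G] [Finite G]

/-- Order of a Sylow `p`-subgroup when `|G| = p^k * m` with `p ∤ m`. -/
theorem sylow_card_of {p : ℕ} [hp : Fact p.Prime] (k m : ℕ) (hN : Nat.card G = p ^ k * m)
    (hm : ¬ p ∣ m) (P : Sylow p G) : Nat.card P = p ^ k := by
  have hm0 : m ≠ 0 := by rintro rfl; exact hm (dvd_zero p)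
  rw [Sylow.card_eq_multiplicity, hN,
    Nat.factorization_mul (pow_ne_zero _ hp.out.ne_zero) hm0, Nat.Prime.factorization_pow hp.out]
  simp [Nat.factorization_eq_zero_of_not_dvd hm]

theorem normalizer_sylow_ne_top [IsSimpleGroup G] {p : ℕ} [Fact p.Prime] (P : Sylow p G)
    (h1 : 1 < Nat.card P) (h2 : Nat.card P < Nat.card G) :
    Subgroup.normalizer ((P : Subgroup G) : Set G) ≠ ⊤ := by
  intro h
  have hn : (P : Subgroup G).Normal := Subgroup.normalizer_eq_top_iff.mp h
  rcases hn.eq_bot_or_eq_top with h3 | h3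
  · rw [h3, Subgroup.card_bot] at h1; omega
  · rw [h3, Subgroup.card_top] at h2; omega

/-- In a simple group a nontrivial proper Sylow subgroup is not the only one. -/
theorem card_sylow_ne_one [IsSimpleGroup G] {p : ℕ} [Fact p.Prime] (P : Sylow p G)
    (h1 : 1 < Nat.card P) (h2 : Nat.card P < Nat.card G) : Nat.card (Sylow p G) ≠ 1 := by
  intro h
  rw [Sylow.card_eq_index_normalizer P, Subgroup.index_eq_one] at h
  exact normalizer_sylow_ne_top P h1 h2 h

/-- In a simple group `|G| ≤ n_p !`. -/
theorem card_le_factorial_card_sylow [IsSimpleGroup G] {p : ℕ} [Fact p.Prime] (P : Sylow p G)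
    (h1 : 1 < Nat.card P) (h2 : Nat.card P < Nat.card G) :
    Nat.card G ≤ (Nat.card (Sylow p G)).factorial := by
  rw [Sylow.card_eq_index_normalizer P]
  exact card_le_factorial_index _ (normalizer_sylow_ne_top P h1 h2)

/-- A simple group of order greater than 2 has no subgroup of index 2. -/
theorem index_ne_two [IsSimpleGroup G] (hgt : 2 < Nat.card G) (H : Subgroup G) : H.index ≠ 2 := by
  intro h2
  have hH : H ≠ ⊤ := by
    intro h; rw [h, Subgroup.index_top] at h2; omega
  have h3 := card_le_factorial_index H hH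
  rw [h2] at h3
  have : Nat.factorial 2 = 2 := rfl
  omega

/-- A simple group of even order greater than 2 has order divisible by 4. -/
theorem four_dvd_card [IsSimpleGroup G] (heven : Even (Nat.card G)) (hgt : 2 < Nat.card G) :
    4 ∣ Nat.card G := by
  haveI : Fact (Nat.Prime 2) := ⟨Nat.prime_two⟩
  obtain ⟨P⟩ : Nonempty (Sylow 2 G) := inferInstance
  obtain ⟨k, hk⟩ := IsPGroup.iff_card.mp P.2
  have hk' : Nat.card (P : Subgroup G) = 2 ^ k := hk
  have h2 : 2 ∣ Nat.card (P : Subgroup G) := P.dvd_card_of_dvd_card (even_iff_two_dvd.mp heven)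
  rcases k with _ | _ | k
  · rw [hk'] at h2; simp at h2
  · exfalso
    have hcyc : IsCyclic (P : Subgroup G) := isCyclic_of_prime_card (p := 2) (by rw [hk']; norm_num)
    obtain ⟨H, hH⟩ := Cfsg.Agent.S0219.result heven P hcyc
    exact index_ne_two hgt H hH
  · have : 4 ∣ Nat.card (P : Subgroup G) := by rw [hk']; exact ⟨2 ^ k, by ring⟩
    exact this.trans (Subgroup.card_subgroup_dvd_card _)

/-- In a simple group the order divides the factorial of the index of a proper subgroup. -/
theorem card_dvd_factorial_index [IsSimpleGroup G] (H : Subgroup G) (hH : H ≠ ⊤) :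
    Nat.card G ∣ (H.index).factorial := by
  have hinj := inj_of_ne_top H hH
  have h1 : Nat.card (MulAction.toPermHom G (G ⧸ H)).range = Nat.card G :=
    (Nat.card_congr (MonoidHom.ofInjective hinj).toEquiv).symm
  have h2 := Subgroup.card_subgroup_dvd_card (MulAction.toPermHom G (G ⧸ H)).range
  rw [h1, Nat.card_perm, ← Subgroup.index_eq_card] at h2
  exact h2

/-- A simple group of even order greater than 2 has no proper subgroup of index less than 5. -/
theorem five_le_index [IsSimpleGroup G] (heven : Even (Nat.card G)) (hgt : 2 < Nat.card G)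
    (H : Subgroup G) (hH : H ≠ ⊤) : 5 ≤ H.index := by
  haveI : Fact (Nat.Prime 2) := ⟨Nat.prime_two⟩
  by_contra hlt
  have h0 : H.index ≠ 0 := Subgroup.index_ne_zero_of_finite
  have h1 : H.index ≠ 1 := fun h => hH (Subgroup.index_eq_one.mp h)
  have h2 : H.index ≠ 2 := index_ne_two hgt H
  have h4 := four_dvd_card heven hgt
  have hdvd := card_dvd_factorial_index H hH
  have key : ∀ (j i : ℕ) (K : Subgroup G), Nat.card K = 2 ^ j → 2 ^ j * i = Nat.card G →
      (i = 2 ∨ (i = 3 ∧ 6 < Nat.card G)) → False := by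
    intro j i K hK hi hcase
    have e := Subgroup.card_mul_index K
    rw [hK, ← hi] at e
    have hpos : 0 < 2 ^ j := by positivity
    have hidx : K.index = i := Nat.eq_of_mul_eq_mul_left hpos e
    rcases hcase with rfl | ⟨rfl, h6⟩
    · exact index_ne_two hgt K hidx
    · have hK' : K ≠ ⊤ := by
        intro h; rw [h, Subgroup.index_top] at hidx; omega
      have h3 := card_le_factorial_index K hK'
      rw [hidx] at h3
      have : Nat.factorial 3 = 6 := rfl
      omega
  obtain ⟨N, hN⟩ : ∃ N, Nat.card G = N := ⟨_, rfl⟩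
  rw [hN] at h4 hdvd hgt
  have hi : H.index = 3 ∨ H.index = 4 := by omega
  rcases hi with hi | hi
  · rw [hi] at hdvd
    have : Nat.factorial 3 = 6 := rfl
    rw [this] at hdvd
    have h6 : N ≤ 6 := Nat.le_of_dvd (by norm_num) hdvd
    interval_cases N <;> omega
  · rw [hi] at hdvd
    have : Nat.factorial 4 = 24 := rfl
    rw [this] at hdvd
    have h24 : N ≤ 24 := Nat.le_of_dvd (by norm_num) hdvd
    have hcases : N = 4 ∨ N = 8 ∨ N = 12 ∨ N = 24 := by
      interval_cases N <;> omega
    rcases hcases with rfl | rfl | rfl | rfl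
    · obtain ⟨K, hK⟩ := Sylow.exists_subgroup_card_pow_prime (G := G) 2 (n := 1)
        (by rw [hN]; norm_num)
      exact key 1 2 K hK (by rw [hN]; norm_num) (Or.inl rfl)
    · obtain ⟨K, hK⟩ := Sylow.exists_subgroup_card_pow_prime (G := G) 2 (n := 2)
        (by rw [hN]; norm_num)
      exact key 2 2 K hK (by rw [hN]; norm_num) (Or.inl rfl)
    · obtain ⟨K, hK⟩ := Sylow.exists_subgroup_card_pow_prime (G := G) 2 (n := 2)
        (by rw [hN]; norm_num)
      exact key 2 3 K hK (by rw [hN]; norm_num) (Or.inr ⟨rfl, by rw [hN]; norm_num⟩)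
    · obtain ⟨K, hK⟩ := Sylow.exists_subgroup_card_pow_prime (G := G) 2 (n := 3)
        (by rw [hN]; norm_num)
      exact key 3 3 K hK (by rw [hN]; norm_num) (Or.inr ⟨rfl, by rw [hN]; norm_num⟩)

/-- A simple group of order greater than 2 with a subgroup of index 5 has order dividing 60. -/
theorem card_dvd_sixty [IsSimpleGroup G] (hgt : 2 < Nat.card G) (H : Subgroup G)
    (h5 : H.index = 5) : Nat.card G ∣ 60 := by
  classical
  have hH : H ≠ ⊤ := by
    intro h; rw [h, Subgroup.index_top] at h5; omega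
  have : Fintype (G ⧸ H) := Fintype.ofFinite _
  have hcardQ : Nat.card (G ⧸ H) = 5 := by rw [← Subgroup.index_eq_card]; exact h5
  have hnt : Nontrivial (G ⧸ H) := by
    rw [← Finite.one_lt_card_iff_nontrivial, hcardQ]; norm_num
  have hinj := inj_of_ne_top H hH
  set f := MulAction.toPermHom G (G ⧸ H) with hf
  set s : G →* ℤˣ := (Equiv.Perm.sign).comp f with hs
  have hker : s.ker = ⊤ := by
    rcases (Subgroup.Normal.eq_bot_or_eq_top (H := s.ker) inferInstance) with h | h
    · exfalso
      have hsinj : Function.Injective s := (MonoidHom.ker_eq_bot_iff s).mp h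
      have h1 := Nat.card_le_card_of_injective s hsinj
      have h2 : Nat.card ℤˣ = 2 := by
        rw [Nat.card_eq_fintype_card]; exact Fintype.card_units_int
      omega
    · exact h
  have hle : f.range ≤ alternatingGroup (G ⧸ H) := by
    rintro x ⟨g, rfl⟩
    rw [Equiv.Perm.mem_alternatingGroup]
    have hg : g ∈ s.ker := by rw [hker]; exact Subgroup.mem_top g
    exact hg
  have h1 : Nat.card f.range = Nat.card G :=
    (Nat.card_congr (MonoidHom.ofInjective hinj).toEquiv).symm
  have h2 := Subgroup.card_dvd_of_le hle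
  rw [h1] at h2
  have h3 := two_mul_nat_card_alternatingGroup (α := G ⧸ H)
  rw [Nat.card_perm, hcardQ] at h3
  have h4 : Nat.factorial 5 = 120 := rfl
  have h5' : Nat.card (alternatingGroup (G ⧸ H)) = 60 := by omega
  rw [h5'] at h2
  exact h2

/-- Distinct Sylow `p`-subgroups of prime order intersect trivially. -/
theorem sylow_prime_ti {p : ℕ} [hp : Fact p.Prime] (hcard : ∀ P : Sylow p G, Nat.card P = p)
    (P Q : Sylow p G) (hPQ : P ≠ Q) : (P : Subgroup G) ⊓ (Q : Subgroup G) = ⊥ := by
  have hP := hcard P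
  have hQ := hcard Q
  have h1 : Nat.card ((P : Subgroup G) ⊓ (Q : Subgroup G) : Subgroup G) ∣ p := by
    have := Subgroup.card_dvd_of_le (inf_le_left : (P : Subgroup G) ⊓ (Q : Subgroup G) ≤ P)
    rwa [hP] at this
  rcases (Nat.dvd_prime hp.out).mp h1 with h2 | h2
  · exact Subgroup.eq_bot_of_card_eq _ h2
  · exfalso
    have h3 : (P : Subgroup G) ⊓ (Q : Subgroup G) = P :=
      Subgroup.eq_of_le_of_card_ge inf_le_left (by omega)
    have h4' : (P : Subgroup G) ≤ Q := by rw [← h3]; exact inf_le_right
    have h5 : (P : Subgroup G) = Q := Subgroup.eq_of_le_of_card_ge h4' (by omega)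
    exact hPQ (Sylow.ext h5)

end Cfsg.Agent.Lib.Helper2.SimpleIndex
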