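import Mathlib

set_option autoImplicit false

namespace Cfsg.Agent.Lib.Helper2.WordLen

variable {W : Type*} [Group W]

theorem prod_reverse_of_invol (l : List W) (h : ∀ x ∈ l, x * x = 1) :
    l.reverse.prod = (l.prod)⁻¹ := by
  induction l with
  | nil => simp
  | cons a l ih =>
    have ha : a * a = 1 := h a (by simp)
    have hl : ∀ x ∈ l, x * x = 1 := fun x hx => h x (by simp [hx])
    rw [List.reverse_cons, List.prod_append, ih hl, List.prod_cons, List.prod_cons, List.prod_nil, mul_one,
      mul_inv_rev, inv_eq_of_mul_eq_one_left ha]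

theorem exists_list_of_mem_closure (K : Set W) (hK : ∀ k ∈ K, k * k = 1) (w : W)
    (hw : w ∈ Subgroup.closure K) : ∃ l : List W, (∀ x ∈ l, x ∈ K) ∧ l.prod = w := by
  induction hw using Subgroup.closure_induction with
  | mem x hx => exact ⟨[x], by simpa using hx, by simp⟩
  | one => exact ⟨[], by simp, by simp⟩
  | mul a b _ _ iha ihb =>
    obtain ⟨la, hla, rfl⟩ := iha
    obtain ⟨lb, hlb, rfl⟩ := ihb
    refine ⟨la ++ lb, ?_, by simp⟩
    intro x hx
    rcases List.mem_append.mp hx with h | h
    · exact hla x h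
    · exact hlb x h
  | inv a _ iha =>
    obtain ⟨la, hla, rfl⟩ := iha
    refine ⟨la.reverse, ?_, prod_reverse_of_invol la (fun x hx => hK x (hla x hx))⟩
    intro x hx
    exact hla x (List.mem_reverse.mp hx)

theorem list_prod_mem_closure (K : Set W) (l : List W) (hl : ∀ x ∈ l, x ∈ K) :
    l.prod ∈ Subgroup.closure K :=
  Subgroup.list_prod_mem _ (fun x hx => Subgroup.subset_closure (hl x hx))

variable (R : Set W)

noncomputable def len (w : W) : ℕ :=
  sInf {k | ∃ l : List W, (∀ x ∈ l, x ∈ R) ∧ l.length = k ∧ l.prod = w}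

variable {R}

theorem len_le (l : List W) (hl : ∀ x ∈ l, x ∈ R) : len R l.prod ≤ l.length :=
  Nat.sInf_le ⟨l, hl, rfl, rfl⟩

theorem len_one : len R (1 : W) = 0 := by
  have := len_le (R := R) ([] : List W) (by simp)
  simpa using this

theorem len_gen_le {r : W} (hr : r ∈ R) : len R r ≤ 1 := by
  have := len_le (R := R) [r] (by simpa using hr)
  simpa using this

variable (hR : ∀ r ∈ R, r * r = 1) (hgen : Subgroup.closure R = ⊤)
include hR hgen

theorem len_spec (w : W) : ∃ l : List W, (∀ x ∈ l, x ∈ R) ∧ l.length = len R w ∧ l.prod = w := by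
  have hne : {k | ∃ l : List W, (∀ x ∈ l, x ∈ R) ∧ l.length = k ∧ l.prod = w}.Nonempty := by
    have hw : w ∈ Subgroup.closure R := by rw [hgen]; exact Subgroup.mem_top w
    obtain ⟨l, hl, hp⟩ := exists_list_of_mem_closure R hR w hw
    exact ⟨l.length, l, hl, rfl, hp⟩
  exact Nat.sInf_mem hne

theorem len_eq_zero {w : W} : len R w = 0 ↔ w = 1 := by
  constructor
  · intro h
    obtain ⟨l, _, hlen, hp⟩ := len_spec hR hgen w
    rw [h, List.length_eq_zero_iff] at hlen
    rw [← hp, hlen, List.prod_nil]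
  · rintro rfl
    exact len_one

theorem len_mul_le (a b : W) : len R (a * b) ≤ len R a + len R b := by
  obtain ⟨la, hla, hlena, rfl⟩ := len_spec hR hgen a
  obtain ⟨lb, hlb, hlenb, rfl⟩ := len_spec hR hgen b
  have := len_le (R := R) (la ++ lb) (by
    intro x hx
    rcases List.mem_append.mp hx with h | h
    · exact hla x h
    · exact hlb x h)
  rw [List.prod_append, List.length_append] at this
  omega

theorem len_inv_le (w : W) : len R w⁻¹ ≤ len R w := by
  obtain ⟨l, hl, hlen, rfl⟩ := len_spec hR hgen w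
  have := len_le (R := R) l.reverse (fun x hx => hl x (List.mem_reverse.mp hx))
  rw [prod_reverse_of_invol l (fun x hx => hR x (hl x hx)), List.length_reverse] at this
  omega

theorem len_inv (w : W) : len R w⁻¹ = len R w := by
  apply le_antisymm (len_inv_le hR hgen w)
  have := len_inv_le hR hgen w⁻¹
  rwa [inv_inv] at this

theorem len_gen_mul_le {r : W} (hr : r ∈ R) (w : W) : len R (r * w) ≤ len R w + 1 := by
  have h1 := len_mul_le hR hgen r w
  have h2 := len_gen_le hr
  omega

theorem len_le_gen_mul {r : W} (hr : r ∈ R) (w : W) : len R w ≤ len R (r * w) + 1 := by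
  have h1 := len_gen_mul_le hR hgen hr (r * w)
  rwa [← mul_assoc, hR r hr, one_mul] at h1

theorem len_mul_gen_le {r : W} (hr : r ∈ R) (w : W) : len R (w * r) ≤ len R w + 1 := by
  have h1 := len_mul_le hR hgen w r
  have h2 := len_gen_le hr
  omega

theorem len_le_mul_gen {r : W} (hr : r ∈ R) (w : W) : len R w ≤ len R (w * r) + 1 := by
  have h1 := len_mul_gen_le hR hgen hr (w * r)
  rwa [mul_assoc, hR r hr, mul_one] at h1

theorem exists_left_descent {w : W} {k : ℕ} (h : len R w = k + 1) :
    ∃ r ∈ R, len R (r * w) = k := by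
  obtain ⟨l, hl, hlen, hp⟩ := len_spec hR hgen w
  rw [h] at hlen
  match l, hl, hlen, hp with
  | [], _, hlen, _ => simp at hlen
  | r :: l', hl, hlen, hp =>
    have hr : r ∈ R := hl r (by simp)
    refine ⟨r, hr, ?_⟩
    have h1 : r * w = l'.prod := by
      rw [← hp, List.prod_cons, ← mul_assoc, hR r hr, one_mul]
    have h2 : len R (r * w) ≤ k := by
      rw [h1]
      have := len_le (R := R) l' (fun x hx => hl x (by simp [hx]))
      simp at hlen
      omega
    have h3 := len_le_gen_mul hR hgen hr w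
    omega

theorem exists_right_descent {w : W} {k : ℕ} (h : len R w = k + 1) :
    ∃ r ∈ R, len R (w * r) = k := by
  have h' : len R w⁻¹ = k + 1 := by rw [len_inv hR hgen, h]
  obtain ⟨r, hr, hk⟩ := exists_left_descent hR hgen h'
  refine ⟨r, hr, ?_⟩
  have : (r * w⁻¹)⁻¹ = w * r := by
    rw [mul_inv_rev, inv_inv, inv_eq_of_mul_eq_one_left (hR r hr)]
  rw [← this, len_inv hR hgen, hk]

theorem len_gen {r : W} (hr : r ∈ R) (h1 : r ≠ 1) : len R r = 1 := by
  have h2 := len_gen_le hr
  have h3 : len R r ≠ 0 := fun h => h1 ((len_eq_zero hR hgen).mp h)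
  omega

end Cfsg.Agent.Lib.Helper2.WordLen
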