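import Mathlib
import Cfsg.Prelude.Def_LieExceptional
import Cfsg.Agent.Lib.Helper2.WordLen

set_option autoImplicit false

namespace Cfsg.Agent.Lib.Helper2.BN

open Cfsg Cfsg.Agent.Lib.Helper2.WordLen

variable {G : Type*} [Group G] (P : Cfsg.BNPair G)

def T : Subgroup P.N := P.B.subgroupOf P.N

instance T_normal : (T P).Normal := by
  constructor
  intro t ht n
  rw [T, Subgroup.mem_subgroupOf] at ht ⊢
  exact P.conj_mem n n.2 t ⟨ht, t.2⟩

abbrev W : Type _ := P.N ⧸ T P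

def π : P.N →* W P := QuotientGroup.mk' (T P)

theorem π_surj : Function.Surjective (π P) := QuotientGroup.mk'_surjective _

theorem π_eq_iff (n n' : P.N) : π P n = π P n' ↔ (n : G)⁻¹ * (n' : G) ∈ P.B := by
  rw [π, QuotientGroup.mk'_apply, QuotientGroup.mk'_apply, QuotientGroup.eq, T,
    Subgroup.mem_subgroupOf]
  rfl

theorem π_eq_one_iff (n : P.N) : π P n = 1 ↔ (n : G) ∈ P.B := by
  rw [π, QuotientGroup.mk'_apply, QuotientGroup.eq_one_iff, T, Subgroup.mem_subgroupOf]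

def σ (s : P.S) : W P := π P ⟨s.1, P.subset s.2⟩

def R : Set (W P) := Set.range (σ P)

theorem σ_mem (s : P.S) : σ P s ∈ R P := ⟨s, rfl⟩

theorem σ_mul_self (s : P.S) : σ P s * σ P s = 1 := by
  rw [σ, ← map_mul, π_eq_one_iff]
  exact P.sq_mem s.1 s.2

theorem R_mul_self : ∀ r ∈ R P, r * r = 1 := by
  rintro _ ⟨s, rfl⟩
  exact σ_mul_self P s

theorem σ_inj (s s' : P.S) (h : σ P s = σ P s') : s = s' := by
  rw [σ, σ, π_eq_iff] at h
  exact Subtype.ext (P.inj s.1 s.2 s'.1 s'.2 h)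

theorem inv_eq (s : P.S) : (s.1)⁻¹ = (s.1 * s.1)⁻¹ * s.1 := by group

theorem inv_eq' (s : P.S) : (s.1)⁻¹ = s.1 * (s.1 * s.1)⁻¹ := by group

theorem exists_conj_not_mem (s : P.S) : ∃ b ∈ P.B, s.1 * b * s.1 ∉ P.B := by
  by_contra hcon
  push Not at hcon
  apply P.conj_ne s.1 s.2
  apply Set.eq_of_subset_of_subset
  · rintro _ ⟨b, hb, rfl⟩
    exact hcon b hb
  · intro b' hb'
    have ht : (s.1 * s.1)⁻¹ ∈ P.B := P.B.inv_mem (P.sq_mem s.1 s.2)
    refine ⟨(s.1)⁻¹ * b' * (s.1)⁻¹, ?_, ?_⟩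
    · have h1 : (s.1)⁻¹ * b' * (s.1)⁻¹ = (s.1 * s.1)⁻¹ * (s.1 * b' * s.1) * (s.1 * s.1)⁻¹ := by group
      show (s.1)⁻¹ * b' * (s.1)⁻¹ ∈ P.B
      rw [h1]
      exact P.B.mul_mem (P.B.mul_mem ht (hcon b' hb')) ht
    · show s.1 * ((s.1)⁻¹ * b' * (s.1)⁻¹) * s.1 = b'
      group

theorem s_not_mem (s : P.S) : s.1 ∉ P.B := by
  intro hs
  obtain ⟨b, hb, h⟩ := exists_conj_not_mem P s
  exact h (P.B.mul_mem (P.B.mul_mem hs hb) hs)

theorem σ_ne_one (s : P.S) : σ P s ≠ 1 := by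
  intro h
  rw [σ, π_eq_one_iff] at h
  exact s_not_mem P s h

theorem R_ne_one : ∀ r ∈ R P, r ≠ 1 := by
  rintro _ ⟨s, rfl⟩
  exact σ_ne_one P s

theorem R_gen : Subgroup.closure (R P) = ⊤ := by
  rw [eq_top_iff]
  intro w _
  obtain ⟨n, rfl⟩ := π_surj P w
  have hle : P.N ≤ Subgroup.map P.N.subtype ((Subgroup.closure (R P)).comap (π P)) := by
    conv_lhs => rw [← P.closure_sup]
    apply sup_le
    · rw [Subgroup.closure_le]
      intro s hs
      refine ⟨⟨s, P.subset hs⟩, ?_, rfl⟩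
      show π P ⟨s, P.subset hs⟩ ∈ Subgroup.closure (R P)
      exact Subgroup.subset_closure ⟨⟨s, hs⟩, rfl⟩
    · intro t ht
      refine ⟨⟨t, ht.2⟩, ?_, rfl⟩
      show π P ⟨t, ht.2⟩ ∈ Subgroup.closure (R P)
      have : π P ⟨t, ht.2⟩ = 1 := (π_eq_one_iff P _).mpr ht.1
      rw [this]
      exact Subgroup.one_mem _
  obtain ⟨m, hm, hmn⟩ := hle n.2
  have : m = n := Subtype.ext hmn
  rw [← this]
  exact hm

noncomputable def ℓ (w : W P) : ℕ := len (R P) w

def C (w : W P) : Set G :=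
  {g | ∃ n : P.N, π P n = w ∧ ∃ b ∈ P.B, ∃ b' ∈ P.B, g = b * (n : G) * b'}

theorem mem_C_of (n : P.N) (b b' : G) (hb : b ∈ P.B) (hb' : b' ∈ P.B) :
    b * (n : G) * b' ∈ C P (π P n) := ⟨n, rfl, b, hb, b', hb', rfl⟩

theorem coe_mem_C (n : P.N) : (n : G) ∈ C P (π P n) :=
  ⟨n, rfl, 1, P.B.one_mem, 1, P.B.one_mem, by simp⟩

theorem C_biinv {w : W P} {g : G} (hg : g ∈ C P w) {b b' : G} (hb : b ∈ P.B) (hb' : b' ∈ P.B) :
    b * g * b' ∈ C P w := by
  obtain ⟨n, hn, b₁, hb₁, b₂, hb₂, rfl⟩ := hg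
  refine ⟨n, hn, b * b₁, P.B.mul_mem hb hb₁, b₂ * b', P.B.mul_mem hb₂ hb', by group⟩

theorem C_mul_left {w : W P} {g : G} (hg : g ∈ C P w) {b : G} (hb : b ∈ P.B) : b * g ∈ C P w := by
  have := C_biinv P hg hb P.B.one_mem
  simpa using this

theorem C_mul_right {w : W P} {g : G} (hg : g ∈ C P w) {b : G} (hb : b ∈ P.B) : g * b ∈ C P w := by
  have := C_biinv P hg P.B.one_mem hb
  simpa using this

theorem C_inv {w : W P} {g : G} (hg : g ∈ C P w) : g⁻¹ ∈ C P w⁻¹ := by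
  obtain ⟨n, hn, b₁, hb₁, b₂, hb₂, rfl⟩ := hg
  refine ⟨n⁻¹, by rw [map_inv, hn], b₂⁻¹, P.B.inv_mem hb₂, b₁⁻¹, P.B.inv_mem hb₁, ?_⟩
  simp [mul_assoc]

theorem C_one : C P 1 = (P.B : Set G) := by
  ext g
  constructor
  · rintro ⟨n, hn, b₁, hb₁, b₂, hb₂, rfl⟩
    exact P.B.mul_mem (P.B.mul_mem hb₁ ((π_eq_one_iff P n).mp hn)) hb₂
  · intro hg
    exact ⟨1, map_one _, g, hg, 1, P.B.one_mem, by simp⟩

theorem eq_one_of_mem_C {w : W P} {g : G} (hg : g ∈ C P w) (hgB : g ∈ P.B) : w = 1 := by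
  obtain ⟨n, hn, b₁, hb₁, b₂, hb₂, rfl⟩ := hg
  rw [← hn, π_eq_one_iff]
  have : (n : G) = b₁⁻¹ * (b₁ * (n : G) * b₂) * b₂⁻¹ := by group
  rw [this]
  exact P.B.mul_mem (P.B.mul_mem (P.B.inv_mem hb₁) hgB) (P.B.inv_mem hb₂)

theorem C_same {w : W P} {g h : G} (hg : g ∈ C P w) (hh : h ∈ C P w) :
    ∃ b ∈ P.B, ∃ b' ∈ P.B, h = b * g * b' := by
  obtain ⟨n, hn, b₁, hb₁, b₂, hb₂, rfl⟩ := hg
  obtain ⟨n', hn', b₃, hb₃, b₄, hb₄, rfl⟩ := hh
  have ht : (n : G)⁻¹ * (n' : G) ∈ P.B := (π_eq_iff P n n').mp (hn.trans hn'.symm)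
  refine ⟨b₃ * b₁⁻¹, P.B.mul_mem hb₃ (P.B.inv_mem hb₁), b₂⁻¹ * ((n : G)⁻¹ * (n' : G)) * b₄,
    P.B.mul_mem (P.B.mul_mem (P.B.inv_mem hb₂) ht) hb₄, by group⟩

theorem C_eq_of_mem {w w' : W P} {g : G} (hg : g ∈ C P w) (hg' : g ∈ C P w') {h : G}
    (hh : h ∈ C P w) : h ∈ C P w' := by
  obtain ⟨b, hb, b', hb', rfl⟩ := C_same P hg hh
  exact C_biinv P hg' hb hb'

theorem C_lift_mul (n n' : P.N) : (n : G) * (n' : G) ∈ C P (π P n * π P n') := by
  rw [← map_mul]
  exact coe_mem_C P (n * n')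

theorem C_split {w w' : W P} {g : G} (hg : g ∈ C P (w * w')) :
    ∃ h ∈ C P w, ∃ h' ∈ C P w', g = h * h' := by
  obtain ⟨n, hn, b₁, hb₁, b₂, hb₂, rfl⟩ := hg
  obtain ⟨m, rfl⟩ := π_surj P w
  refine ⟨b₁ * (m : G), ?_, ((m⁻¹ * n : P.N) : G) * b₂, ?_, ?_⟩
  · have := mem_C_of P m b₁ 1 hb₁ P.B.one_mem
    simpa using this
  · have h1 : π P (m⁻¹ * n) = w' := by
      rw [map_mul, map_inv, hn, inv_mul_cancel_left]
    have := mem_C_of P (m⁻¹ * n) 1 b₂ P.B.one_mem hb₂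
    rw [h1] at this
    simpa using this
  · simp [mul_assoc]

theorem C_nonempty (w : W P) : ∃ n : P.N, π P n = w ∧ (n : G) ∈ C P w := by
  obtain ⟨n, rfl⟩ := π_surj P w
  exact ⟨n, rfl, coe_mem_C P n⟩

theorem s_mem_C (s : P.S) : s.1 ∈ C P (σ P s) := coe_mem_C P ⟨s.1, P.subset s.2⟩

theorem BN1 (s : P.S) (w : W P) {g h : G} (hg : g ∈ C P (σ P s)) (hh : h ∈ C P w) :
    g * h ∈ C P (σ P s * w) ∨ g * h ∈ C P w := by
  obtain ⟨m, hm, b₁, hb₁, b₂, hb₂, rfl⟩ := hg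
  obtain ⟨n, hn, b₃, hb₃, b₄, hb₄, rfl⟩ := hh
  have ht : (s.1)⁻¹ * (m : G) ∈ P.B := by
    have := (π_eq_iff P ⟨s.1, P.subset s.2⟩ m).mp hm.symm
    exact this
  have hb : (s.1)⁻¹ * (m : G) * b₂ * b₃ ∈ P.B := P.B.mul_mem (P.B.mul_mem ht hb₂) hb₃
  have key := P.mul_mem_union s.1 s.2 n n.2 _ hb
  have heq : b₁ * (m : G) * b₂ * (b₃ * (n : G) * b₄)
      = b₁ * (s.1 * ((s.1)⁻¹ * (m : G) * b₂ * b₃) * (n : G)) * b₄ := by group
  rw [heq]
  rcases key with key | key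
  · left
    obtain ⟨x, hx, y, hy, hxy⟩ := DoubleCoset.mem_doubleCoset.mp key
    rw [hxy]
    have := mem_C_of P (⟨s.1, P.subset s.2⟩ * n) (b₁ * x) (y * b₄) (P.B.mul_mem hb₁ hx)
      (P.B.mul_mem hy hb₄)
    rw [map_mul, hn] at this
    have h2 : b₁ * (x * (s.1 * (n : G)) * y) * b₄ = b₁ * x * ((⟨s.1, P.subset s.2⟩ * n : P.N) : G) * (y * b₄) := by
      simp [mul_assoc]
    rw [h2]
    exact this
  · right
    obtain ⟨x, hx, y, hy, hxy⟩ := DoubleCoset.mem_doubleCoset.mp key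
    rw [hxy]
    have := mem_C_of P n (b₁ * x) (y * b₄) (P.B.mul_mem hb₁ hx) (P.B.mul_mem hy hb₄)
    rw [hn] at this
    have h2 : b₁ * (x * (n : G) * y) * b₄ = b₁ * x * (n : G) * (y * b₄) := by
      simp [mul_assoc]
    rw [h2]
    exact this

theorem BN1' (s : P.S) (w : W P) {g h : G} (hg : g ∈ C P w) (hh : h ∈ C P (σ P s)) :
    g * h ∈ C P (w * σ P s) ∨ g * h ∈ C P w := by
  have hσinv : (σ P s)⁻¹ = σ P s := inv_eq_of_mul_eq_one_left (σ_mul_self P s)
  have h1 : h⁻¹ ∈ C P (σ P s) := by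
    have := C_inv P hh
    rwa [hσinv] at this
  have h2 : g⁻¹ ∈ C P w⁻¹ := C_inv P hg
  rcases BN1 P s w⁻¹ h1 h2 with h3 | h3
  · left
    have := C_inv P h3
    simp only [mul_inv_rev, inv_inv] at this
    rwa [hσinv] at this
  · right
    have := C_inv P h3
    simp only [mul_inv_rev, inv_inv] at this
    exact this

theorem BN2 (s : P.S) : ∃ g ∈ C P (σ P s), ∃ h ∈ C P (σ P s), g * h ∈ C P (σ P s) := by
  obtain ⟨b, hb, hnot⟩ := exists_conj_not_mem P s
  refine ⟨s.1 * b, C_mul_right P (s_mem_C P s) hb, s.1, s_mem_C P s, ?_⟩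
  have key := P.mul_mem_union s.1 s.2 s.1 (P.subset s.2) b hb
  rcases key with key | key
  · exfalso
    obtain ⟨x, hx, y, hy, hxy⟩ := DoubleCoset.mem_doubleCoset.mp key
    apply hnot
    rw [hxy]
    exact P.B.mul_mem (P.B.mul_mem hx (P.sq_mem s.1 s.2)) hy
  · obtain ⟨x, hx, y, hy, hxy⟩ := DoubleCoset.mem_doubleCoset.mp key
    rw [hxy]
    exact C_biinv P (s_mem_C P s) hx hy


theorem ℓ_eq_zero {w : W P} : ℓ P w = 0 ↔ w = 1 := len_eq_zero (R_mul_self P) (R_gen P)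

theorem ℓ_gen_mul_le (s : P.S) (w : W P) : ℓ P (σ P s * w) ≤ ℓ P w + 1 :=
  len_gen_mul_le (R_mul_self P) (R_gen P) (σ_mem P s) w

theorem ℓ_le_gen_mul (s : P.S) (w : W P) : ℓ P w ≤ ℓ P (σ P s * w) + 1 :=
  len_le_gen_mul (R_mul_self P) (R_gen P) (σ_mem P s) w

theorem ℓ_mul_gen_le (s : P.S) (w : W P) : ℓ P (w * σ P s) ≤ ℓ P w + 1 :=
  len_mul_gen_le (R_mul_self P) (R_gen P) (σ_mem P s) w

theorem ℓ_le_mul_gen (s : P.S) (w : W P) : ℓ P w ≤ ℓ P (w * σ P s) + 1 :=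
  len_le_mul_gen (R_mul_self P) (R_gen P) (σ_mem P s) w

theorem ℓ_left_descent {w : W P} {k : ℕ} (h : ℓ P w = k + 1) : ∃ s : P.S, ℓ P (σ P s * w) = k := by
  obtain ⟨_, ⟨s, rfl⟩, hs⟩ := exists_left_descent (R_mul_self P) (R_gen P) h
  exact ⟨s, hs⟩

theorem ℓ_right_descent {w : W P} {k : ℕ} (h : ℓ P w = k + 1) : ∃ s : P.S, ℓ P (w * σ P s) = k := by
  obtain ⟨_, ⟨s, rfl⟩, hs⟩ := exists_right_descent (R_mul_self P) (R_gen P) h
  exact ⟨s, hs⟩

theorem ℓ_le (l : List (W P)) (hl : ∀ x ∈ l, x ∈ R P) : ℓ P l.prod ≤ l.length := len_le l hl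

theorem ℓ_σ (s : P.S) : ℓ P (σ P s) = 1 := len_gen (R_mul_self P) (R_gen P) (σ_mem P s) (σ_ne_one P s)

theorem σ_inv (s : P.S) : (σ P s)⁻¹ = σ P s := inv_eq_of_mul_eq_one_left (σ_mul_self P s)

theorem σ_mul_cancel (s : P.S) (w : W P) : σ P s * (σ P s * w) = w := by
  rw [← mul_assoc, σ_mul_self, one_mul]

theorem mul_σ_cancel (s : P.S) (w : W P) : w * σ P s * σ P s = w := by
  rw [mul_assoc, σ_mul_self, mul_one]

theorem C_disjoint_aux (k : ℕ) : ∀ (w w' : W P), ℓ P w = k → ℓ P w ≤ ℓ P w' →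
    ∀ g, g ∈ C P w → g ∈ C P w' → w = w' := by
  induction k with
  | zero =>
    intro w w' hk _ g hg hg'
    have hw : w = 1 := (ℓ_eq_zero P).mp hk
    subst hw
    rw [C_one] at hg
    exact (eq_one_of_mem_C P hg' hg).symm
  | succ k ih =>
    intro w w' hk hle g hg hg'
    obtain ⟨s, hs⟩ := ℓ_left_descent P hk
    obtain ⟨n₁, hn₁, hn₁C⟩ := C_nonempty P (σ P s * w)
    have h1 : s.1 * (n₁ : G) ∈ C P w := by
      have := C_lift_mul P ⟨s.1, P.subset s.2⟩ n₁
      rw [hn₁] at this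
      have h2 : π P ⟨s.1, P.subset s.2⟩ * (σ P s * w) = w := σ_mul_cancel P s w
      rw [h2] at this
      exact this
    have h2 : s.1 * (n₁ : G) ∈ C P w' := C_eq_of_mem P hg hg' h1
    have h3 : (s.1)⁻¹ ∈ C P (σ P s) := by
      have := C_inv P (s_mem_C P s)
      rwa [σ_inv] at this
    have h4 := BN1 P s w' h3 h2
    rw [inv_mul_cancel_left] at h4
    rcases h4 with h4 | h4
    · have h5 : ℓ P (σ P s * w) ≤ ℓ P (σ P s * w') := by
        have := ℓ_le_gen_mul P s w'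
        omega
      have h6 := ih (σ P s * w) (σ P s * w') hs h5 n₁ hn₁C h4
      exact mul_left_cancel h6
    · exfalso
      have h5 : ℓ P (σ P s * w) ≤ ℓ P w' := by omega
      have h6 := ih (σ P s * w) w' hs h5 n₁ hn₁C h4
      rw [← h6] at hle
      omega

theorem C_disjoint {w w' : W P} {g : G} (hg : g ∈ C P w) (hg' : g ∈ C P w') : w = w' := by
  rcases le_total (ℓ P w) (ℓ P w') with h | h
  · exact C_disjoint_aux P _ w w' rfl h g hg hg'
  · exact (C_disjoint_aux P _ w' w rfl h g hg' hg).symm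

def PA (r w : W P) : Prop := ∀ g ∈ C P r, ∀ h ∈ C P w, g * h ∈ C P (r * w)

theorem PA_one (r : W P) : PA P r 1 := by
  intro g hg h hh
  rw [C_one] at hh
  rw [mul_one]
  exact C_mul_right P hg hh

theorem PA_of_le_aux (k : ℕ) : ∀ (s : P.S) (w : W P), ℓ P w = k → ℓ P w ≤ ℓ P (σ P s * w) →
    PA P (σ P s) w := by
  induction k with
  | zero =>
    intro s w hk _
    have hw : w = 1 := (ℓ_eq_zero P).mp hk
    subst hw
    exact PA_one P _
  | succ k ih =>
    intro s w hk hle g hg h hh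
    rcases BN1 P s w hg hh with h1 | h1
    · exact h1
    · exfalso
      obtain ⟨s', hs'⟩ := ℓ_right_descent P hk
      have hw : w = (w * σ P s') * σ P s' := (mul_σ_cancel P s' w).symm
      have hh' : h ∈ C P ((w * σ P s') * σ P s') := by rw [← hw]; exact hh
      obtain ⟨h', hh'C, x, hxC, rfl⟩ := C_split P hh'
      have hle' : ℓ P (w * σ P s') ≤ ℓ P (σ P s * (w * σ P s')) := by
        have := ℓ_le_mul_gen P s' (σ P s * w)
        rw [mul_assoc] at this
        omega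
      have h2 : g * h' ∈ C P (σ P s * (w * σ P s')) := ih s (w * σ P s') hs' hle' g hg h' hh'C
      have hx' : x⁻¹ ∈ C P (σ P s') := by
        have := C_inv P hxC
        rwa [σ_inv] at this
      have h3 := BN1' P s' w h1 hx'
      have h4 : g * (h' * x) * x⁻¹ = g * h' := by group
      rw [h4] at h3
      rcases h3 with h3 | h3
      · have h5 := C_disjoint P h2 h3
        have h6 : σ P s = 1 := by
          have : σ P s * (w * σ P s') = 1 * (w * σ P s') := by rw [one_mul]; exact h5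
          exact mul_right_cancel this
        exact σ_ne_one P s h6
      · have h5 := C_disjoint P h2 h3
        have h6 : σ P s * w = w * σ P s' := by
          conv_lhs => rw [← h5]
          exact σ_mul_cancel P s _
        rw [h6, hs'] at hle
        omega

theorem PA_of_le (s : P.S) (w : W P) (h : ℓ P w ≤ ℓ P (σ P s * w)) : PA P (σ P s) w :=
  PA_of_le_aux P _ s w rfl h

theorem exists_of_le (s : P.S) (w : W P) (h : ℓ P (σ P s * w) ≤ ℓ P w) :
    ∃ g ∈ C P (σ P s), ∃ h ∈ C P w, g * h ∈ C P w := by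
  have hPA : PA P (σ P s) (σ P s * w) := by
    apply PA_of_le
    rw [σ_mul_cancel]
    exact h
  obtain ⟨g₁, hg₁, g₂, hg₂, hg₁₂⟩ := BN2 P s
  obtain ⟨n₁, hn₁, hn₁C⟩ := C_nonempty P (σ P s * w)
  refine ⟨g₁, hg₁, g₂ * (n₁ : G), ?_, ?_⟩
  · have := hPA g₂ hg₂ n₁ hn₁C
    rwa [σ_mul_cancel] at this
  · have := hPA (g₁ * g₂) hg₁₂ n₁ hn₁C
    rwa [σ_mul_cancel, mul_assoc] at this

theorem PA_iff (s : P.S) (w : W P) : PA P (σ P s) w ↔ ℓ P w < ℓ P (σ P s * w) := by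
  constructor
  · intro hPA
    by_contra hlt
    obtain ⟨g, hg, h, hh, hgh⟩ := exists_of_le P s w (by omega)
    have h1 := hPA g hg h hh
    have h2 := C_disjoint P h1 hgh
    have h3 : σ P s = 1 := by
      have : σ P s * w = 1 * w := by rw [one_mul]; exact h2
      exact mul_right_cancel this
    exact σ_ne_one P s h3
  · intro h
    exact PA_of_le P s w h.le

theorem not_PA_iff (s : P.S) (w : W P) : ¬ PA P (σ P s) w ↔ ℓ P (σ P s * w) < ℓ P w := by
  rw [PA_iff]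
  constructor
  · intro h
    by_contra h2
    have h3 : PA P (σ P s) w := PA_of_le P s w (by omega)
    exact h ((PA_iff P s w).mp h3)
  · intro h
    omega

theorem ℓ_ne (s : P.S) (w : W P) : ℓ P (σ P s * w) ≠ ℓ P w := by
  intro h
  have h1 : PA P (σ P s) w := PA_of_le P s w (by omega)
  have h2 := (PA_iff P s w).mp h1
  omega

theorem exch_step (s : P.S) (u : W P) (s' : P.S) (h1 : PA P (σ P s) u)
    (h2 : ¬ PA P (σ P s) (u * σ P s')) : σ P s * u = u * σ P s' := by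
  unfold PA at h2
  push Not at h2
  obtain ⟨g, hg, h, hh, hgh⟩ := h2
  have h3 : g * h ∈ C P (u * σ P s') := by
    rcases BN1 P s (u * σ P s') hg hh with h | h
    · exact absurd h hgh
    · exact h
  obtain ⟨h', hh', x, hx, rfl⟩ := C_split P hh
  have h4 : g * h' ∈ C P (σ P s * u) := h1 g hg h' hh'
  have h5 := BN1' P s' (σ P s * u) h4 hx
  rw [mul_assoc, mul_assoc] at h5
  rcases h5 with h5 | h5
  · exact absurd h5 hgh
  · exact C_disjoint P h5 h3

theorem exchange (s : P.S) (l : List (W P)) (hl : ∀ x ∈ l, x ∈ R P)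
    (h : ¬ PA P (σ P s) l.prod) :
    ∃ l₁ t l₂, l = l₁ ++ t :: l₂ ∧ σ P s * l₁.prod = l₁.prod * t := by
  induction l using List.reverseRecOn with
  | nil =>
    exfalso
    apply h
    rw [List.prod_nil]
    exact PA_one P _
  | append_singleton l t ih =>
    have hl' : ∀ x ∈ l, x ∈ R P := fun x hx => hl x (by simp [hx])
    obtain ⟨s', rfl⟩ : t ∈ R P := hl t (by simp)
    by_cases hPA : PA P (σ P s) l.prod
    · refine ⟨l, σ P s', [], rfl, ?_⟩
      rw [List.prod_append, List.prod_singleton] at h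
      exact exch_step P s l.prod s' hPA h
    · obtain ⟨l₁, t', l₂, hl₁, heq⟩ := ih hl' hPA
      refine ⟨l₁, t', l₂ ++ [σ P s'], ?_, heq⟩
      rw [hl₁]
      simp

theorem exchange_prod (s : P.S) (l : List (W P)) (hl : ∀ x ∈ l, x ∈ R P)
    (h : ¬ PA P (σ P s) l.prod) :
    ∃ l₁ t l₂, l = l₁ ++ t :: l₂ ∧ σ P s * l₁.prod = l₁.prod * t ∧ σ P s * l.prod = (l₁ ++ l₂).prod := by
  obtain ⟨l₁, t, l₂, hl₁, heq⟩ := exchange P s l hl h
  refine ⟨l₁, t, l₂, hl₁, heq, ?_⟩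
  have ht : t * t = 1 := R_mul_self P t (hl t (by rw [hl₁]; simp))
  rw [hl₁, List.prod_append, List.prod_cons, List.prod_append, ← mul_assoc, ← mul_assoc, heq,
    mul_assoc l₁.prod, ht, mul_one]

theorem deletion (l : List (W P)) (hl : ∀ x ∈ l, x ∈ R P) (h : ℓ P l.prod < l.length) :
    ∃ l' : List (W P), (∀ x ∈ l', x ∈ l) ∧ l'.prod = l.prod ∧ l'.length + 2 = l.length := by
  induction l with
  | nil => simp at h
  | cons t l₀ ih =>
    have hl₀ : ∀ x ∈ l₀, x ∈ R P := fun x hx => hl x (by simp [hx])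
    obtain ⟨s, rfl⟩ : t ∈ R P := hl t (by simp)
    by_cases hlt : ℓ P l₀.prod < l₀.length
    · obtain ⟨l', hl'1, hl'2, hl'3⟩ := ih hl₀ hlt
      refine ⟨σ P s :: l', ?_, ?_, ?_⟩
      · intro x hx
        rcases List.mem_cons.mp hx with rfl | hx
        · simp
        · simp [hl'1 x hx]
      · rw [List.prod_cons, List.prod_cons, hl'2]
      · simp only [List.length_cons]
        omega
    · have hle := ℓ_le P l₀ hl₀
      have heq : ℓ P l₀.prod = l₀.length := by omega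
      rw [List.prod_cons, List.length_cons] at h
      have hnPA : ¬ PA P (σ P s) l₀.prod := by
        rw [not_PA_iff]
        have := ℓ_ne P s l₀.prod
        omega
      obtain ⟨l₁, t, l₂, hl₁, _, hprod⟩ := exchange_prod P s l₀ hl₀ hnPA
      refine ⟨l₁ ++ l₂, ?_, ?_, ?_⟩
      · intro x hx
        rw [hl₁]
        rcases List.mem_append.mp hx with hx | hx
        · simp [hx]
        · simp [hx]
      · rw [List.prod_cons, hprod]
      · rw [hl₁]
        simp only [List.length_cons, List.length_append]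
        omega

theorem exists_reduced_word_aux (K : Set (W P)) (hK : K ⊆ R P) (n : ℕ) :
    ∀ l : List (W P), l.length = n → (∀ x ∈ l, x ∈ K) →
      ∃ l' : List (W P), (∀ x ∈ l', x ∈ K) ∧ l'.prod = l.prod ∧ l'.length = ℓ P l.prod := by
  induction n using Nat.strong_induction_on with
  | _ n ih =>
    intro l hn hl
    have hlR : ∀ x ∈ l, x ∈ R P := fun x hx => hK (hl x hx)
    have hle := ℓ_le P l hlR
    rcases Nat.lt_or_ge (ℓ P l.prod) l.length with hlt | hge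
    · obtain ⟨l', hl'1, hl'2, hl'3⟩ := deletion P l hlR hlt
      obtain ⟨l'', h1, h2, h3⟩ := ih l'.length (by omega) l' rfl (fun x hx => hl x (hl'1 x hx))
      refine ⟨l'', h1, ?_, ?_⟩
      · rw [h2, hl'2]
      · rw [h3, hl'2]
    · exact ⟨l, hl, rfl, by omega⟩

theorem exists_reduced_word (K : Set (W P)) (hK : K ⊆ R P) (w : W P)
    (hw : w ∈ Subgroup.closure K) :
    ∃ l : List (W P), (∀ x ∈ l, x ∈ K) ∧ l.prod = w ∧ l.length = ℓ P w := by
  obtain ⟨l, hl, rfl⟩ := exists_list_of_mem_closure K (fun k hk => R_mul_self P k (hK hk)) w hw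
  exact exists_reduced_word_aux P K hK l.length l rfl hl

theorem mem_of_mem_closure (K : Set (W P)) (hK : K ⊆ R P) (s : P.S)
    (hs : σ P s ∈ Subgroup.closure K) : σ P s ∈ K := by
  obtain ⟨l, hl, hprod, hlen⟩ := exists_reduced_word P K hK (σ P s) hs
  rw [ℓ_σ] at hlen
  match l, hl, hprod, hlen with
  | [k], hl, hprod, _ =>
    rw [List.prod_singleton] at hprod
    rw [← hprod]
    exact hl k (by simp)

theorem letters_subset_aux (q : ℕ) : ∀ (l l' : List (W P)), (∀ x ∈ l, x ∈ R P) →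
    (∀ x ∈ l', x ∈ R P) → l.prod = l'.prod → l.length = q → l'.length = q → ℓ P l.prod = q →
    ∀ x ∈ l, x ∈ l' := by
  induction q with
  | zero =>
    intro l l' _ _ _ hlen _ _ x hx
    rw [List.length_eq_zero_iff] at hlen
    rw [hlen] at hx
    simp at hx
  | succ q ih =>
    intro l l' hl hl' hprod hlen hlen' hℓ
    match l, hl, hprod, hlen, hℓ with
    | t :: l₀, hl, hprod, hlen, hℓ =>
      have hl₀ : ∀ x ∈ l₀, x ∈ R P := fun x hx => hl x (by simp [hx])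
      obtain ⟨s, rfl⟩ : t ∈ R P := hl t (by simp)
      rw [List.prod_cons] at hprod hℓ
      simp only [List.length_cons, Nat.add_right_cancel_iff] at hlen
      have h1 : σ P s * l'.prod = l₀.prod := by rw [← hprod, σ_mul_cancel]
      have h2 : ℓ P l₀.prod ≤ q := by
        have := ℓ_le P l₀ hl₀
        omega
      have h3 : ℓ P l₀.prod = q := by
        have := ℓ_le_gen_mul P s (σ P s * l₀.prod)
        rw [σ_mul_cancel] at this
        omega
      have hnPA : ¬ PA P (σ P s) l'.prod := by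
        rw [not_PA_iff, h1, ← hprod, hℓ]
        omega
      obtain ⟨l₁, t, l₂, hl₁, hex, hprod'⟩ := exchange_prod P s l' hl' hnPA
      have h4 : l₀.prod = (l₁ ++ l₂).prod := by rw [← hprod', h1]
      have h5 : (l₁ ++ l₂).length = q := by
        rw [hl₁] at hlen'
        simp only [List.length_cons, List.length_append] at hlen' ⊢
        omega
      have h6 : ∀ x ∈ l₁ ++ l₂, x ∈ R P := by
        intro x hx
        apply hl'
        rw [hl₁]
        rcases List.mem_append.mp hx with hx | hx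
        · simp [hx]
        · simp [hx]
      have h7 := ih l₀ (l₁ ++ l₂) hl₀ h6 h4 hlen h5 h3
      intro x hx
      rcases List.mem_cons.mp hx with rfl | hx
      · have hK : {y | y ∈ l'} ⊆ R P := fun y hy => hl' y hy
        apply mem_of_mem_closure P {y | y ∈ l'} hK s
        have h8 : σ P s = l₁.prod * t * (l₁.prod)⁻¹ := by
          rw [← hex, mul_inv_cancel_right]
        rw [h8]
        have h9 : l₁.prod ∈ Subgroup.closure {y | y ∈ l'} := by
          apply list_prod_mem_closure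
          intro y hy
          show y ∈ l'
          rw [hl₁]
          simp [hy]
        have h10 : t ∈ Subgroup.closure {y | y ∈ l'} := by
          apply Subgroup.subset_closure
          show t ∈ l'
          rw [hl₁]
          simp
        exact Subgroup.mul_mem _ (Subgroup.mul_mem _ h9 h10) (Subgroup.inv_mem _ h9)
      · have := h7 x hx
        rw [hl₁]
        rcases List.mem_append.mp this with h | h
        · simp [h]
        · simp [h]

theorem letters_subset (l l' : List (W P)) (hl : ∀ x ∈ l, x ∈ R P) (hl' : ∀ x ∈ l', x ∈ R P)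
    (hprod : l.prod = l'.prod) (hlen : l.length = ℓ P l.prod) (hlen' : l'.length = ℓ P l.prod) :
    ∀ x ∈ l, x ∈ l' :=
  letters_subset_aux P _ l l' hl hl' hprod hlen hlen' rfl

theorem letters_mem (K : Set (W P)) (hK : K ⊆ R P) (l : List (W P)) (hl : ∀ x ∈ l, x ∈ R P)
    (hlen : l.length = ℓ P l.prod) (hw : l.prod ∈ Subgroup.closure K) : ∀ x ∈ l, x ∈ K := by
  obtain ⟨l', hl'1, hl'2, hl'3⟩ := exists_reduced_word P K hK l.prod hw
  intro x hx
  exact hl'1 x (letters_subset P l l' hl (fun y hy => hK (hl'1 y hy)) hl'2.symm hlen hl'3 x hx)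

theorem closure_inf (J K : Set (W P)) (hJ : J ⊆ R P) (hK : K ⊆ R P) :
    Subgroup.closure J ⊓ Subgroup.closure K = Subgroup.closure (J ∩ K) := by
  apply le_antisymm
  · rintro w ⟨hwJ, hwK⟩
    obtain ⟨l, hl1, hl2, hl3⟩ := exists_reduced_word P J hJ w hwJ
    have hl4 : ∀ x ∈ l, x ∈ K := by
      apply letters_mem P K hK l (fun x hx => hJ (hl1 x hx))
      · rw [hl2, hl3]
      · rw [hl2]; exact hwK
    rw [← hl2]
    exact list_prod_mem_closure _ l (fun x hx => ⟨hl1 x hx, hl4 x hx⟩)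
  · apply le_inf
    · exact Subgroup.closure_mono Set.inter_subset_left
    · exact Subgroup.closure_mono Set.inter_subset_right

end Cfsg.Agent.Lib.Helper2.BN
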