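import Mathlib
import Cfsg.Prelude.Def_LieExceptional
import Cfsg.Agent.Lib.Helper2.WordLen
import Cfsg.Agent.Lib.Helper2.BN

set_option autoImplicit false

namespace Cfsg.Agent.Lib.Helper2.BN

open Cfsg Cfsg.Agent.Lib.Helper2.WordLen

variable {G : Type*} [Group G] (P : Cfsg.BNPair G)

theorem dc_iff (n : G) (hn : n ∈ P.N) (g : G) :
    g ∈ DoubleCoset.doubleCoset n (P.B : Set G) P.B ↔ g ∈ C P (π P ⟨n, hn⟩) := by
  constructor
  · intro h
    obtain ⟨x, hx, y, hy, rfl⟩ := DoubleCoset.mem_doubleCoset.mp h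
    exact mem_C_of P ⟨n, hn⟩ x y hx hy
  · rintro ⟨n', hn', b, hb, b', hb', rfl⟩
    have ht : n⁻¹ * (n' : G) ∈ P.B := (π_eq_iff P ⟨n, hn⟩ n').mp hn'.symm
    exact DoubleCoset.mem_doubleCoset.mpr ⟨b, hb, n⁻¹ * (n' : G) * b', P.B.mul_mem ht hb', by group⟩

def Jbar (J : Set G) : Set (W P) := {w | ∃ s : P.S, s.1 ∈ J ∧ σ P s = w}

theorem Jbar_subset (J : Set G) : Jbar P J ⊆ R P := by
  rintro _ ⟨s, _, rfl⟩
  exact σ_mem P s

theorem Jbar_eq_image {J : Set G} (hJ : J ⊆ P.S) :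
    Jbar P J = (π P) '' {n : P.N | (n : G) ∈ J} := by
  ext w
  constructor
  · rintro ⟨s, hs, rfl⟩
    exact ⟨⟨s.1, P.subset s.2⟩, hs, rfl⟩
  · rintro ⟨n, hn, rfl⟩
    exact ⟨⟨n.1, hJ hn⟩, hn, rfl⟩

theorem closure_eq_map {J : Set G} (hJ : J ⊆ P.S) :
    Subgroup.closure J = (Subgroup.closure {n : P.N | (n : G) ∈ J}).map P.N.subtype := by
  rw [MonoidHom.map_closure]
  congr 1
  ext x
  constructor
  · intro hx
    exact ⟨⟨x, P.subset (hJ hx)⟩, hx, rfl⟩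
  · rintro ⟨n, hn, rfl⟩
    exact hn

theorem closure_Jbar_eq_map {J : Set G} (hJ : J ⊆ P.S) :
    Subgroup.closure (Jbar P J) = (Subgroup.closure {n : P.N | (n : G) ∈ J}).map (π P) := by
  rw [MonoidHom.map_closure, Jbar_eq_image P hJ]

theorem closure_le_N {J : Set G} (hJ : J ⊆ P.S) : Subgroup.closure J ≤ P.N := by
  rw [Subgroup.closure_le]
  exact fun x hx => P.subset (hJ hx)

theorem π_mem_closure {J : Set G} (hJ : J ⊆ P.S) {n : G} (hn : n ∈ Subgroup.closure J) :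
    π P ⟨n, closure_le_N P hJ hn⟩ ∈ Subgroup.closure (Jbar P J) := by
  rw [closure_Jbar_eq_map P hJ]
  rw [closure_eq_map P hJ] at hn
  obtain ⟨m, hm, hmn⟩ := hn
  refine ⟨m, hm, ?_⟩
  congr 1
  exact Subtype.ext hmn

theorem exists_lift_closure {J : Set G} (hJ : J ⊆ P.S) {w : W P}
    (hw : w ∈ Subgroup.closure (Jbar P J)) :
    ∃ n : P.N, (n : G) ∈ Subgroup.closure J ∧ π P n = w := by
  rw [closure_Jbar_eq_map P hJ] at hw
  obtain ⟨m, hm, rfl⟩ := hw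
  refine ⟨m, ?_, rfl⟩
  rw [closure_eq_map P hJ]
  exact ⟨m, hm, rfl⟩

theorem B_le_parabolic (J : Set G) : P.B ≤ P.parabolic J := le_sup_left

theorem closure_le_parabolic (J : Set G) : Subgroup.closure J ≤ P.parabolic J := le_sup_right

theorem parabolic_mono {J K : Set G} (h : J ⊆ K) : P.parabolic J ≤ P.parabolic K :=
  sup_le_sup_left (Subgroup.closure_mono h) _

theorem mem_parabolic_of_dc {J : Set G} {n g : G} (hn : n ∈ Subgroup.closure J)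
    (hg : g ∈ DoubleCoset.doubleCoset n (P.B : Set G) P.B) : g ∈ P.parabolic J := by
  obtain ⟨x, hx, y, hy, rfl⟩ := DoubleCoset.mem_doubleCoset.mp hg
  exact (P.parabolic J).mul_mem ((P.parabolic J).mul_mem (B_le_parabolic P J hx)
    (closure_le_parabolic P J hn)) (B_le_parabolic P J hy)

theorem mem_parabolic_iff {J : Set G} (hJ : J ⊆ P.S) (g : G) :
    g ∈ P.parabolic J ↔ ∃ n ∈ Subgroup.closure J, g ∈ DoubleCoset.doubleCoset n (P.B : Set G) P.B := by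
  constructor
  · intro hg
    let X : Set G := {g | ∃ n ∈ Subgroup.closure J, g ∈ DoubleCoset.doubleCoset n (P.B : Set G) P.B}
    have hB : ∀ b ∈ P.B, ∀ x ∈ X, b * x ∈ X := by
      rintro b hb x ⟨n, hn, hx⟩
      obtain ⟨x₁, hx₁, y₁, hy₁, rfl⟩ := DoubleCoset.mem_doubleCoset.mp hx
      exact ⟨n, hn, DoubleCoset.mem_doubleCoset.mpr ⟨b * x₁, P.B.mul_mem hb hx₁, y₁, hy₁, by group⟩⟩
    have hS : ∀ s ∈ J, ∀ x ∈ X, s * x ∈ X := by
      rintro s hs x ⟨n, hn, hx⟩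
      obtain ⟨x₁, hx₁, y₁, hy₁, rfl⟩ := DoubleCoset.mem_doubleCoset.mp hx
      have key := P.mul_mem_union s (hJ hs) n (closure_le_N P hJ hn) x₁ hx₁
      rcases key with key | key
      · obtain ⟨x₂, hx₂, y₂, hy₂, h2⟩ := DoubleCoset.mem_doubleCoset.mp key
        refine ⟨s * n, Subgroup.mul_mem _ (Subgroup.subset_closure hs) hn, ?_⟩
        refine DoubleCoset.mem_doubleCoset.mpr ⟨x₂, hx₂, y₂ * y₁, P.B.mul_mem hy₂ hy₁, ?_⟩
        calc s * (x₁ * n * y₁) = (s * x₁ * n) * y₁ := by group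
          _ = x₂ * (s * n) * y₂ * y₁ := by rw [h2]
          _ = x₂ * (s * n) * (y₂ * y₁) := by group
      · obtain ⟨x₂, hx₂, y₂, hy₂, h2⟩ := DoubleCoset.mem_doubleCoset.mp key
        refine ⟨n, hn, ?_⟩
        refine DoubleCoset.mem_doubleCoset.mpr ⟨x₂, hx₂, y₂ * y₁, P.B.mul_mem hy₂ hy₁, ?_⟩
        calc s * (x₁ * n * y₁) = (s * x₁ * n) * y₁ := by group
          _ = x₂ * n * y₂ * y₁ := by rw [h2]
          _ = x₂ * n * (y₂ * y₁) := by group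
    have hQ : ∀ g ∈ Subgroup.closure ((P.B : Set G) ∪ J),
        (∀ x ∈ X, g * x ∈ X) ∧ (∀ x ∈ X, g⁻¹ * x ∈ X) := by
      intro g hg
      induction hg using Subgroup.closure_induction with
      | mem a ha =>
        rcases ha with ha | ha
        · exact ⟨hB a ha, hB a⁻¹ (P.B.inv_mem ha)⟩
        · refine ⟨hS a ha, ?_⟩
          intro x hx
          have h1 : a⁻¹ * x = a * ((a * a)⁻¹ * x) := by group
          rw [h1]
          exact hS a ha _ (hB _ (P.B.inv_mem (P.sq_mem a (hJ ha))) x hx)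
      | one => exact ⟨fun x hx => by simpa using hx, fun x hx => by simpa using hx⟩
      | mul a b _ _ iha ihb =>
        refine ⟨fun x hx => ?_, fun x hx => ?_⟩
        · rw [mul_assoc]
          exact iha.1 _ (ihb.1 x hx)
        · rw [mul_inv_rev, mul_assoc]
          exact ihb.2 _ (iha.2 x hx)
      | inv a _ iha =>
        refine ⟨iha.2, ?_⟩
        rw [inv_inv]
        exact iha.1
    have hg' : g ∈ Subgroup.closure ((P.B : Set G) ∪ J) := by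
      rw [Subgroup.closure_union, Subgroup.closure_eq]
      exact hg
    have h1 : (1 : G) ∈ X :=
      ⟨1, Subgroup.one_mem _, DoubleCoset.mem_doubleCoset.mpr ⟨1, P.B.one_mem, 1, P.B.one_mem, by simp⟩⟩
    have := (hQ g hg').1 1 h1
    rwa [mul_one] at this
  · rintro ⟨n, hn, hg⟩
    exact mem_parabolic_of_dc P hn hg

theorem mem_parabolic_iff_C {J : Set G} (hJ : J ⊆ P.S) (g : G) :
    g ∈ P.parabolic J ↔ ∃ w ∈ Subgroup.closure (Jbar P J), g ∈ C P w := by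
  rw [mem_parabolic_iff P hJ]
  constructor
  · rintro ⟨n, hn, hg⟩
    exact ⟨_, π_mem_closure P hJ hn, (dc_iff P n (closure_le_N P hJ hn) g).mp hg⟩
  · rintro ⟨w, hw, hg⟩
    obtain ⟨n, hn, rfl⟩ := exists_lift_closure P hJ hw
    exact ⟨n, hn, (dc_iff P n n.2 g).mpr hg⟩

theorem parabolic_S : P.parabolic P.S = ⊤ := by
  rw [eq_top_iff, ← P.sup_eq_top]
  apply sup_le (B_le_parabolic P _)
  conv_lhs => rw [← P.closure_sup]
  apply sup_le (closure_le_parabolic P _)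
  exact inf_le_left.trans (B_le_parabolic P _)

theorem bruhat (g : G) : ∃ n ∈ P.N, g ∈ DoubleCoset.doubleCoset n (P.B : Set G) P.B := by
  have hg : g ∈ P.parabolic P.S := by rw [parabolic_S]; exact Subgroup.mem_top g
  obtain ⟨n, hn, hg⟩ := (mem_parabolic_iff P (subset_refl _) g).mp hg
  exact ⟨n, closure_le_N P (subset_refl _) hn, hg⟩

theorem bruhat_C (g : G) : ∃ w : W P, g ∈ C P w := by
  obtain ⟨n, hn, hg⟩ := bruhat P g
  exact ⟨_, (dc_iff P n hn g).mp hg⟩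

theorem dc_eq_iff {n n' : G} (hn : n ∈ P.N) (hn' : n' ∈ P.N) :
    DoubleCoset.doubleCoset n (P.B : Set G) P.B = DoubleCoset.doubleCoset n' (P.B : Set G) P.B
      ↔ n⁻¹ * n' ∈ P.B := by
  constructor
  · intro h
    have h1 : n ∈ DoubleCoset.doubleCoset n' (P.B : Set G) P.B := by
      rw [← h]
      exact DoubleCoset.mem_doubleCoset_self _ _ _
    have h2 := (dc_iff P n' hn' n).mp h1
    have h3 := coe_mem_C P ⟨n, hn⟩
    have h4 := C_disjoint P h3 h2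
    exact (π_eq_iff P ⟨n, hn⟩ ⟨n', hn'⟩).mp h4
  · intro h
    have h1 : n' ∈ DoubleCoset.doubleCoset n (P.B : Set G) P.B :=
      DoubleCoset.mem_doubleCoset.mpr ⟨1, P.B.one_mem, n⁻¹ * n', h, by group⟩
    exact (DoubleCoset.doubleCoset_eq_of_mem h1).symm

theorem s_mem_of_descent (s : P.S) (n : P.N) (h : ℓ P (σ P s * π P n) ≤ ℓ P (π P n)) :
    ∃ b₁ ∈ P.B, ∃ b₂ ∈ P.B, ∃ b₃ ∈ P.B, s.1 = b₁ * (n : G) * b₂ * (n : G)⁻¹ * b₃ := by
  obtain ⟨g₁, hg₁, h₁, hh₁, hgh⟩ := exists_of_le P s (π P n) h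
  obtain ⟨x₁, hx₁, y₁, hy₁, rfl⟩ := C_same P (s_mem_C P s) hg₁
  obtain ⟨x₂, hx₂, y₂, hy₂, rfl⟩ := C_same P (coe_mem_C P n) hh₁
  obtain ⟨x₃, hx₃, y₃, hy₃, h3⟩ := C_same P (coe_mem_C P n) hgh
  refine ⟨x₁⁻¹ * x₃, P.B.mul_mem (P.B.inv_mem hx₁) hx₃, y₃ * y₂⁻¹, P.B.mul_mem hy₃ (P.B.inv_mem hy₂),
    x₂⁻¹ * y₁⁻¹, P.B.mul_mem (P.B.inv_mem hx₂) (P.B.inv_mem hy₁), ?_⟩
  have h4 : s.1 = x₁⁻¹ * (x₁ * s.1 * y₁ * (x₂ * (n : G) * y₂)) * y₂⁻¹ * (n : G)⁻¹ * x₂⁻¹ * y₁⁻¹ := by group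
  rw [h4, h3]
  group

theorem mem_of_conj_mem_aux (k : ℕ) : ∀ (n : P.N), ℓ P (π P n) = k → ∀ H : Subgroup G, P.B ≤ H →
    (∀ b ∈ P.B, (n : G) * b * (n : G)⁻¹ ∈ H) → (n : G) ∈ H := by
  induction k with
  | zero =>
    intro n hk H hB _
    exact hB ((π_eq_one_iff P n).mp ((ℓ_eq_zero P).mp hk))
  | succ k ih =>
    intro n hk H hB hconj
    obtain ⟨s, hs⟩ := ℓ_left_descent P hk
    obtain ⟨b₁, hb₁, b₂, hb₂, b₃, hb₃, hseq⟩ := s_mem_of_descent P s n (by omega)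
    have hsH : s.1 ∈ H := by
      rw [hseq]
      have h1 : b₁ * (n : G) * b₂ * (n : G)⁻¹ * b₃ = b₁ * ((n : G) * b₂ * (n : G)⁻¹) * b₃ := by group
      rw [h1]
      exact H.mul_mem (H.mul_mem (hB hb₁) (hconj b₂ hb₂)) (hB hb₃)
    let n' : P.N := ⟨s.1, P.subset s.2⟩⁻¹ * n
    have hn' : π P n' = σ P s * π P n := by
      show π P (⟨s.1, P.subset s.2⟩⁻¹ * n) = σ P s * π P n
      rw [map_mul, map_inv]
      show (σ P s)⁻¹ * π P n = σ P s * π P n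
      rw [σ_inv]
    have hn'H : (n' : G) ∈ H := by
      apply ih n' (by rw [hn', hs]) H hB
      intro b hb
      have h2 : (n' : G) * b * (n' : G)⁻¹ = (s.1)⁻¹ * ((n : G) * b * (n : G)⁻¹) * s.1 := by
        show (s.1)⁻¹ * (n : G) * b * ((s.1)⁻¹ * (n : G))⁻¹ = _
        group
      rw [h2]
      exact H.mul_mem (H.mul_mem (H.inv_mem hsH) (hconj b hb)) hsH
    have h3 : (n : G) = s.1 * (n' : G) := by
      show (n : G) = s.1 * ((s.1)⁻¹ * (n : G))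
      group
    rw [h3]
    exact H.mul_mem hsH hn'H

theorem mem_of_conj_mem {n : G} (hn : n ∈ P.N) (H : Subgroup G) (hB : P.B ≤ H)
    (hconj : ∀ b ∈ P.B, n * b * n⁻¹ ∈ H) : n ∈ H :=
  mem_of_conj_mem_aux P _ ⟨n, hn⟩ rfl H hB hconj

theorem mem_of_mem_aux (k : ℕ) : ∀ (n : P.N), ℓ P (π P n) = k → ∀ M : Subgroup G, P.B ≤ M →
    (n : G) ∈ M → (n : G) ∈ P.parabolic (P.S ∩ M) := by
  induction k with
  | zero =>
    intro n hk M _ _
    exact B_le_parabolic P _ ((π_eq_one_iff P n).mp ((ℓ_eq_zero P).mp hk))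
  | succ k ih =>
    intro n hk M hB hnM
    obtain ⟨s, hs⟩ := ℓ_left_descent P hk
    obtain ⟨b₁, hb₁, b₂, hb₂, b₃, hb₃, hseq⟩ := s_mem_of_descent P s n (by omega)
    have hsM : s.1 ∈ M := by
      rw [hseq]
      exact M.mul_mem (M.mul_mem (M.mul_mem (M.mul_mem (hB hb₁) hnM) (hB hb₂)) (M.inv_mem hnM)) (hB hb₃)
    let n' : P.N := ⟨s.1, P.subset s.2⟩⁻¹ * n
    have hn' : π P n' = σ P s * π P n := by
      show π P (⟨s.1, P.subset s.2⟩⁻¹ * n) = σ P s * π P n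
      rw [map_mul, map_inv]
      show (σ P s)⁻¹ * π P n = σ P s * π P n
      rw [σ_inv]
    have hn'M : (n' : G) ∈ M := M.mul_mem (M.inv_mem hsM) hnM
    have h1 := ih n' (by rw [hn', hs]) M hB hn'M
    have h3 : (n : G) = s.1 * (n' : G) := by
      show (n : G) = s.1 * ((s.1)⁻¹ * (n : G))
      group
    rw [h3]
    exact (P.parabolic _).mul_mem (closure_le_parabolic P _ (Subgroup.subset_closure ⟨s.2, hsM⟩)) h1

theorem eq_parabolic (M : Subgroup G) (hM : P.B ≤ M) : M = P.parabolic (P.S ∩ M) := by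
  apply le_antisymm
  · intro g hg
    obtain ⟨n, hn, hgn⟩ := bruhat P g
    obtain ⟨x, hx, y, hy, rfl⟩ := DoubleCoset.mem_doubleCoset.mp hgn
    have hnM : n ∈ M := by
      have : n = x⁻¹ * (x * n * y) * y⁻¹ := by group
      rw [this]
      exact M.mul_mem (M.mul_mem (M.inv_mem (hM hx)) hg) (M.inv_mem (hM hy))
    have h1 := mem_of_mem_aux P _ ⟨n, hn⟩ rfl M hM hnM
    exact (P.parabolic _).mul_mem ((P.parabolic _).mul_mem (B_le_parabolic P _ hx) h1)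
      (B_le_parabolic P _ hy)
  · apply sup_le hM
    rw [Subgroup.closure_le]
    exact fun x hx => hx.2

theorem mem_of_mem_parabolic {K : Set G} (hK : K ⊆ P.S) {s : G} (hs : s ∈ P.S)
    (h : s ∈ P.parabolic K) : s ∈ K := by
  obtain ⟨w, hw, hsw⟩ := (mem_parabolic_iff_C P hK s).mp h
  have h1 := C_disjoint P (s_mem_C P ⟨s, hs⟩) hsw
  rw [← h1] at hw
  obtain ⟨s', hs', heq⟩ := mem_of_mem_closure P (Jbar P K) (Jbar_subset P K) ⟨s, hs⟩ hw
  have := σ_inj P s' ⟨s, hs⟩ heq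
  rw [this] at hs'
  exact hs'

theorem subset_of_parabolic_le {J K : Set G} (hJ : J ⊆ P.S) (hK : K ⊆ P.S)
    (h : P.parabolic J ≤ P.parabolic K) : J ⊆ K := by
  intro s hs
  exact mem_of_mem_parabolic P hK (hJ hs) (h (closure_le_parabolic P J (Subgroup.subset_closure hs)))

theorem Jbar_inter (J K : Set G) : Jbar P J ∩ Jbar P K = Jbar P (J ∩ K) := by
  ext w
  constructor
  · rintro ⟨⟨s, hs, rfl⟩, ⟨s', hs', heq⟩⟩
    have := σ_inj P s' s heq
    rw [this] at hs'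
    exact ⟨s, ⟨hs, hs'⟩, rfl⟩
  · rintro ⟨s, ⟨hs, hs'⟩, rfl⟩
    exact ⟨⟨s, hs, rfl⟩, ⟨s, hs', rfl⟩⟩

theorem parabolic_inf {J K : Set G} (hJ : J ⊆ P.S) (hK : K ⊆ P.S) :
    P.parabolic J ⊓ P.parabolic K = P.parabolic (J ∩ K) := by
  apply le_antisymm
  · rintro g ⟨hgJ, hgK⟩
    obtain ⟨w, hw, hgw⟩ := (mem_parabolic_iff_C P hJ g).mp hgJ
    obtain ⟨w', hw', hgw'⟩ := (mem_parabolic_iff_C P hK g).mp hgK
    have h1 := C_disjoint P hgw hgw'
    rw [← h1] at hw'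
    have h2 : w ∈ Subgroup.closure (Jbar P J) ⊓ Subgroup.closure (Jbar P K) := ⟨hw, hw'⟩
    rw [closure_inf P _ _ (Jbar_subset P J) (Jbar_subset P K), Jbar_inter] at h2
    exact (mem_parabolic_iff_C P (Set.inter_subset_left.trans hJ) g).mpr ⟨w, h2, hgw⟩
  · exact le_inf (parabolic_mono P Set.inter_subset_left) (parabolic_mono P Set.inter_subset_right)

end Cfsg.Agent.Lib.Helper2.BN
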