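import Mathlib

set_option autoImplicit false
set_option linter.unusedSectionVars false

namespace Cfsg.Agent.Lib.Helper2.HeartEmb

open scoped Matrix

section abstract

variable {X : Type*} [Fintype X] [DecidableEq X] {k : ℕ}

/-- The permutation matrix of `σ`, covariantly. -/
def Pm (σ : Equiv.Perm X) : Matrix X X (ZMod 2) := (σ⁻¹).permMatrix (ZMod 2)

theorem Pm_one : Pm (1 : Equiv.Perm X) = 1 := by
  unfold Pm
  rw [inv_one, Matrix.permMatrix_one]

theorem Pm_mul (σ τ : Equiv.Perm X) : Pm (σ * τ) = Pm σ * Pm τ := by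
  unfold Pm
  rw [mul_inv_rev, Matrix.permMatrix_mul]

theorem Pm_mulVec_one (σ : Equiv.Perm X) : Pm σ *ᵥ 1 = 1 := by
  unfold Pm
  rw [Matrix.permMatrix_mulVec]
  rfl

theorem one_vecMul_Pm (σ : Equiv.Perm X) : 1 ᵥ* Pm σ = 1 := by
  unfold Pm
  rw [Matrix.vecMul_permMatrix]
  rfl

theorem Pm_transpose (σ : Equiv.Perm X) : Pm σ * (Pm σ)ᵀ = 1 := by
  unfold Pm
  rw [Matrix.transpose_permMatrix, ← Matrix.permMatrix_mul, inv_inv, mul_inv_cancel,
    Matrix.permMatrix_one]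

theorem Pm_mul_apply {ι : Type*} (σ : Equiv.Perm X) (Y : Matrix X ι (ZMod 2)) (a : X) (j : ι) :
    (Pm σ * Y) a j = Y (σ⁻¹ a) j := by
  unfold Pm Equiv.Perm.permMatrix
  rw [PEquiv.toMatrix_toPEquiv_mul]
  rfl

theorem neg_mat {m n : Type*} (A : Matrix m n (ZMod 2)) : -A = A := by
  ext i j
  exact ZMod.neg_eq_self_mod_two _

theorem J_tr : (Matrix.J (Fin k) (ZMod 2))ᵀ = Matrix.J (Fin k) (ZMod 2) := by
  rw [Matrix.J_transpose, neg_mat]

theorem J_sq : Matrix.J (Fin k) (ZMod 2) * Matrix.J (Fin k) (ZMod 2) = 1 := by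
  rw [Matrix.J_squared, neg_mat]

variable (B : Matrix X (Fin k ⊕ Fin k) (ZMod 2))

/-- The matrix of dual coordinates. -/
def Cm : Matrix (Fin k ⊕ Fin k) X (ZMod 2) := Matrix.J (Fin k) (ZMod 2) * Bᵀ

variable (h1 : 1 ᵥ* B = 0) (h2 : Bᵀ * B = Matrix.J (Fin k) (ZMod 2))
  (h3 : ∀ w : X → ZMod 2, 1 ⬝ᵥ w = 0 → Bᵀ *ᵥ w = 0 → ∃ c : ZMod 2, w = c • 1)

include h2 in
theorem CB : Cm B * B = 1 := by
  unfold Cm
  rw [Matrix.mul_assoc, h2, J_sq]

include h1 in
theorem C1 : Cm B *ᵥ 1 = 0 := by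
  unfold Cm
  have h : Bᵀ *ᵥ 1 = 0 := by rw [Matrix.mulVec_transpose, h1]
  rw [← Matrix.mulVec_mulVec, h, Matrix.mulVec_zero]

include h2 in
theorem CCt : Cm B * (Cm B)ᵀ = Matrix.J (Fin k) (ZMod 2) := by
  unfold Cm
  rw [Matrix.transpose_mul, Matrix.transpose_transpose, J_tr, Matrix.mul_assoc,
    ← Matrix.mul_assoc Bᵀ, h2, J_sq, Matrix.mul_one]

include h1 h2 h3 in
theorem BC_mulVec (y : X → ZMod 2) (hy : 1 ⬝ᵥ y = 0) :
    ∃ c : ZMod 2, (B * Cm B) *ᵥ y = y + c • 1 := by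
  obtain ⟨c, hc⟩ := h3 ((B * Cm B) *ᵥ y - y) (by
    rw [dotProduct_sub, hy, sub_zero, Matrix.dotProduct_mulVec, ← Matrix.vecMul_vecMul, h1,
      Matrix.zero_vecMul, zero_dotProduct]) (by
    rw [Matrix.mulVec_sub, Matrix.mulVec_mulVec, ← Matrix.mul_assoc, h2]
    unfold Cm
    rw [← Matrix.mul_assoc, J_sq, Matrix.one_mul, sub_self])
  exact ⟨c, by rw [← hc]; abel⟩

include h1 h2 h3 in
theorem BC_mul {ι' : Type*} (Y : Matrix X ι' (ZMod 2)) (hY : 1 ᵥ* Y = 0) :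
    ∃ c : ι' → ZMod 2, (B * Cm B) * Y = Y + Matrix.vecMulVec 1 c := by
  have h : ∀ j, ∃ c : ZMod 2, (B * Cm B) *ᵥ (fun a => Y a j) = (fun a => Y a j) + c • 1 := by
    intro j
    apply BC_mulVec B h1 h2 h3
    exact congrFun hY j
  choose c hc using h
  refine ⟨c, ?_⟩
  ext a j
  have h4 := congrFun (hc j) a
  rw [Matrix.add_apply, Matrix.vecMulVec_apply, Pi.one_apply, one_mul]
  rw [Pi.add_apply, Pi.smul_apply, Pi.one_apply, smul_eq_mul, mul_one] at h4
  exact h4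

include h1 h2 h3 in
theorem key {ι ι' : Type*} (X' : Matrix ι X (ZMod 2)) (Y : Matrix X ι' (ZMod 2))
    (hX : X' *ᵥ 1 = 0) (hY : 1 ᵥ* Y = 0) : X' * (B * Cm B) * Y = X' * Y := by
  obtain ⟨c, hc⟩ := BC_mul B h1 h2 h3 Y hY
  rw [Matrix.mul_assoc, hc, Matrix.mul_add, Matrix.mul_vecMulVec, hX]
  have h0 : Matrix.vecMulVec (0 : ι → ZMod 2) c = 0 := by
    ext i j; simp [Matrix.vecMulVec_apply]
  rw [h0, add_zero]

include h1 h2 h3 in
theorem mem (σ : Equiv.Perm X) :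
    Cm B * Pm σ * B ∈ Matrix.symplecticGroup (Fin k) (ZMod 2) := by
  rw [SymplecticGroup.mem_iff]
  have h0 : (Cm B * Pm σ) *ᵥ 1 = 0 := by
    rw [← Matrix.mulVec_mulVec, Pm_mulVec_one, C1 B h1]
  have h0' : 1 ᵥ* ((Pm σ)ᵀ * (Cm B)ᵀ) = 0 := by
    rw [← Matrix.transpose_mul, Matrix.vecMul_transpose, h0]
  have e1 : Cm B * Pm σ * B * Matrix.J (Fin k) (ZMod 2) * (Cm B * Pm σ * B)ᵀ =
      (Cm B * Pm σ) * (B * Cm B) * ((Pm σ)ᵀ * (Cm B)ᵀ) := by
    rw [Matrix.transpose_mul (Cm B * Pm σ) B, Matrix.transpose_mul (Cm B) (Pm σ)]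
    unfold Cm
    simp only [Matrix.mul_assoc]
  rw [e1, key B h1 h2 h3 _ _ h0 h0', Matrix.mul_assoc, ← Matrix.mul_assoc (Pm σ), Pm_transpose,
    Matrix.one_mul, CCt B h2]

/-- The homomorphism from the symmetric group to the symplectic group. -/
def hom : Equiv.Perm X →* Matrix.symplecticGroup (Fin k) (ZMod 2) where
  toFun σ := ⟨Cm B * Pm σ * B, mem B h1 h2 h3 σ⟩
  map_one' := Subtype.ext (by
    show Cm B * Pm 1 * B = 1
    rw [Pm_one, Matrix.mul_one, CB B h2])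
  map_mul' σ τ := Subtype.ext (by
    show Cm B * Pm (σ * τ) * B = (Cm B * Pm σ * B) * (Cm B * Pm τ * B)
    have h0 : (Cm B * Pm σ) *ᵥ 1 = 0 := by
      rw [← Matrix.mulVec_mulVec, Pm_mulVec_one, C1 B h1]
    have h1' : 1 ᵥ* (Pm τ * B) = 0 := by
      rw [← Matrix.vecMul_vecMul, one_vecMul_Pm, h1]
    have h4 := key B h1 h2 h3 (Cm B * Pm σ) (Pm τ * B) h0 h1'
    rw [Pm_mul]
    simp only [Matrix.mul_assoc] at h4 ⊢
    exact h4.symm)

theorem hom_apply (σ : Equiv.Perm X) :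
    ((hom B h1 h2 h3 σ : Matrix.symplecticGroup (Fin k) (ZMod 2)) :
      Matrix (Fin k ⊕ Fin k) (Fin k ⊕ Fin k) (ZMod 2)) = Cm B * Pm σ * B := rfl

/-- If `σ` is in the kernel, it fixes every basis vector modulo the all-ones vector. -/
theorem of_mem_ker (σ : Equiv.Perm X) (hσ : hom B h1 h2 h3 σ = 1) :
    ∃ c : Fin k ⊕ Fin k → ZMod 2, ∀ a j, B (σ⁻¹ a) j + c j = B a j := by
  have h4 : Cm B * Pm σ * B = 1 := by
    rw [← hom_apply B h1 h2 h3, hσ]
    rfl
  have h1' : 1 ᵥ* (Pm σ * B) = 0 := by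
    rw [← Matrix.vecMul_vecMul, one_vecMul_Pm, h1]
  obtain ⟨c, hc⟩ := BC_mul B h1 h2 h3 (Pm σ * B) h1'
  refine ⟨c, ?_⟩
  intro a j
  have h5 : (B * Cm B) * (Pm σ * B) = B := by
    rw [Matrix.mul_assoc, ← Matrix.mul_assoc (Cm B), h4, Matrix.mul_one]
  rw [h5] at hc
  have h6 := congrFun (congrFun hc a) j
  rw [Matrix.add_apply, Pm_mul_apply, Matrix.vecMulVec_apply, Pi.one_apply, one_mul] at h6
  exact h6.symm

/-- Injectivity criterion. -/
theorem hom_injective (hX : 5 ≤ Nat.card X) (c : Equiv.Perm X)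
    (hc : c ∈ alternatingGroup X) (hne : hom B h1 h2 h3 c ≠ 1) :
    Function.Injective (hom B h1 h2 h3) := by
  rw [← MonoidHom.ker_eq_bot_iff]
  by_contra h
  have hnt : Nontrivial ((hom B h1 h2 h3).ker) := (Subgroup.nontrivial_iff_ne_bot _).mpr h
  have hle := Equiv.Perm.alternatingGroup_le_of_normal hX hnt
  exact hne (MonoidHom.mem_ker.mp (hle hc))

end abstract

section concrete

variable {k : ℕ}

/-- The point set: `k` pairs and two extra points. -/
abbrev Pt (k : ℕ) : Type := (Fin k × Fin 2) ⊕ Fin 2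

/-- The vector supported on the `i`-th pair. -/
def xv (i : Fin k) : Pt k → ZMod 2 :=
  Sum.elim (fun p => if p.1 = i then 1 else 0) (fun _ => 0)

/-- The dual vector. -/
def yv (i : Fin k) : Pt k → ZMod 2 :=
  Sum.elim (fun p => if i < p.1 ∨ (p.1 = i ∧ p.2 = 1) then 1 else 0)
    (fun c => if c = 0 then 1 else 0)

/-- The matrix whose columns are the basis vectors. -/
def Bm (k : ℕ) : Matrix (Pt k) (Fin k ⊕ Fin k) (ZMod 2) :=
  Matrix.of fun a j => Sum.elim (fun i => xv i a) (fun i => yv i a) j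

theorem sum_Pt (f : Pt k → ZMod 2) :
    ∑ a, f a = ∑ l : Fin k, (f (Sum.inl (l, 0)) + f (Sum.inl (l, 1)))
      + (f (Sum.inr 0) + f (Sum.inr 1)) := by
  rw [Fintype.sum_sum_type, Fintype.sum_prod_type, Fin.sum_univ_two]
  congr 1
  apply Finset.sum_congr rfl
  intro l _
  rw [Fin.sum_univ_two]

theorem add_self2 (a : ZMod 2) : a + a = 0 := CharTwo.add_self_eq_zero a

theorem xv_inl (i l : Fin k) (c : Fin 2) : xv i (Sum.inl (l, c)) = if l = i then 1 else 0 := rfl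

theorem xv_inr (i : Fin k) (c : Fin 2) : xv i (Sum.inr c) = 0 := rfl

theorem yv_inr0 (i : Fin k) : yv i (Sum.inr 0) = 1 := rfl

theorem yv_inr1 (i : Fin k) : yv i (Sum.inr 1) = 0 := rfl

theorem yv_pair (i l : Fin k) :
    yv i (Sum.inl (l, 0)) + yv i (Sum.inl (l, 1)) = if l = i then 1 else 0 := by
  show (if i < l ∨ (l = i ∧ (0 : Fin 2) = 1) then (1 : ZMod 2) else 0)
    + (if i < l ∨ (l = i ∧ (1 : Fin 2) = 1) then (1 : ZMod 2) else 0) = _
  rcases lt_trichotomy i l with h | h | h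
  · have hne : l ≠ i := ne_of_gt h
    simp [h, hne]
    exact add_self2 1
  · subst h
    simp
  · have hne : l ≠ i := ne_of_lt h
    have h' : ¬ i < l := not_lt_of_gt h
    simp [h', hne]

theorem yv_mul (i i' : Fin k) (h : i ≤ i') (p : Fin k × Fin 2) :
    yv i (Sum.inl p) * yv i' (Sum.inl p) = yv i' (Sum.inl p) := by
  show (if i < p.1 ∨ (p.1 = i ∧ p.2 = 1) then (1 : ZMod 2) else 0)
    * (if i' < p.1 ∨ (p.1 = i' ∧ p.2 = 1) then (1 : ZMod 2) else 0)
    = (if i' < p.1 ∨ (p.1 = i' ∧ p.2 = 1) then (1 : ZMod 2) else 0)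
  by_cases h' : i' < p.1 ∨ (p.1 = i' ∧ p.2 = 1)
  · have h'' : i < p.1 ∨ (p.1 = i ∧ p.2 = 1) := by
      rcases h' with h' | ⟨h', h2⟩
      · left; exact lt_of_le_of_lt h h'
      · rcases lt_or_eq_of_le h with h3 | h3
        · left; rw [h']; exact h3
        · right; exact ⟨by rw [h', h3], h2⟩
    rw [if_pos h', if_pos h'', mul_one]
  · rw [if_neg h', mul_zero]

theorem sum_single (i : Fin k) (f : Fin k → ZMod 2) :
    ∑ l : Fin k, (if l = i then 1 else 0) * f l = f i := by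
  rw [Finset.sum_eq_single i]
  · rw [if_pos rfl, one_mul]
  · intro l _ hl
    rw [if_neg hl, zero_mul]
  · intro h
    exact absurd (Finset.mem_univ i) h

theorem xx (i i' : Fin k) : ∑ a, xv i a * xv i' a = 0 := by
  rw [sum_Pt]
  simp only [xv_inr, zero_mul, add_zero]
  apply Finset.sum_eq_zero
  intro l _
  rw [xv_inl, xv_inl, xv_inl, xv_inl]
  exact add_self2 _

theorem xy (i i' : Fin k) : ∑ a, xv i a * yv i' a = if i = i' then 1 else 0 := by
  rw [sum_Pt]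
  simp only [xv_inr, zero_mul, add_zero]
  have h : ∀ l : Fin k, xv i (Sum.inl (l, 0)) * yv i' (Sum.inl (l, 0))
      + xv i (Sum.inl (l, 1)) * yv i' (Sum.inl (l, 1))
      = (if l = i then 1 else 0) * (if l = i' then 1 else 0) := by
    intro l
    rw [xv_inl, xv_inl, ← mul_add, yv_pair]
  rw [Finset.sum_congr rfl (fun l _ => h l), sum_single]

theorem yy_le (i i' : Fin k) (h : i ≤ i') : ∑ a, yv i a * yv i' a = 0 := by
  rw [sum_Pt, yv_inr0, yv_inr0, yv_inr1, yv_inr1, mul_one, mul_zero, add_zero]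
  have h' : ∀ l : Fin k, yv i (Sum.inl (l, 0)) * yv i' (Sum.inl (l, 0))
      + yv i (Sum.inl (l, 1)) * yv i' (Sum.inl (l, 1))
      = (if l = i' then 1 else 0) * 1 := by
    intro l
    rw [yv_mul i i' h, yv_mul i i' h, yv_pair, mul_one]
  rw [Finset.sum_congr rfl (fun l _ => h' l), sum_single]
  exact add_self2 1

theorem yy (i i' : Fin k) : ∑ a, yv i a * yv i' a = 0 := by
  rcases le_total i i' with h | h
  · exact yy_le i i' h
  · rw [← yy_le i' i h]
    apply Finset.sum_congr rfl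
    intro a _
    exact mul_comm _ _

theorem Bm_inl (a : Pt k) (i : Fin k) : Bm k a (Sum.inl i) = xv i a := rfl

theorem Bm_inr (a : Pt k) (i : Fin k) : Bm k a (Sum.inr i) = yv i a := rfl

theorem one_Bm : 1 ᵥ* Bm k = 0 := by
  funext j
  show ∑ a, (1 : Pt k → ZMod 2) a * Bm k a j = 0
  rcases j with i | i
  · simp only [Bm_inl, Pi.one_apply, one_mul]
    rw [sum_Pt, xv_inr, xv_inr, add_zero, add_zero]
    apply Finset.sum_eq_zero
    intro l _
    rw [xv_inl, xv_inl]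
    exact add_self2 _
  · simp only [Bm_inr, Pi.one_apply, one_mul]
    rw [sum_Pt, yv_inr0, yv_inr1, add_zero]
    have h := sum_single i (fun _ => (1 : ZMod 2))
    simp only [mul_one] at h
    rw [Finset.sum_congr rfl (fun l _ => yv_pair i l), h]
    exact add_self2 1

theorem J_apply_inl_inl (i j : Fin k) :
    Matrix.J (Fin k) (ZMod 2) (Sum.inl i) (Sum.inl j) = 0 := by
  simp [Matrix.J]

theorem J_apply_inl_inr (i j : Fin k) :
    Matrix.J (Fin k) (ZMod 2) (Sum.inl i) (Sum.inr j) = if i = j then 1 else 0 := by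
  simp [Matrix.J, Matrix.one_apply]

theorem J_apply_inr_inl (i j : Fin k) :
    Matrix.J (Fin k) (ZMod 2) (Sum.inr i) (Sum.inl j) = if i = j then 1 else 0 := by
  simp [Matrix.J, Matrix.one_apply]

theorem J_apply_inr_inr (i j : Fin k) :
    Matrix.J (Fin k) (ZMod 2) (Sum.inr i) (Sum.inr j) = 0 := by
  simp [Matrix.J]

theorem gram : (Bm k)ᵀ * Bm k = Matrix.J (Fin k) (ZMod 2) := by
  ext j j'
  show ∑ a, Bm k a j * Bm k a j' = _
  rcases j with i | i <;> rcases j' with i' | i'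
  · simp only [Bm_inl]
    rw [xx, J_apply_inl_inl]
  · simp only [Bm_inl, Bm_inr]
    rw [xy, J_apply_inl_inr]
  · simp only [Bm_inl, Bm_inr]
    have h := xy i' i
    rw [J_apply_inr_inl]
    have e : (if i = i' then (1 : ZMod 2) else 0) = if i' = i then 1 else 0 := by
      by_cases h' : i = i'
      · rw [if_pos h', if_pos h'.symm]
      · rw [if_neg h', if_neg (Ne.symm h')]
    rw [e, ← h]
    apply Finset.sum_congr rfl
    intro a _
    exact mul_comm _ _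
  · simp only [Bm_inr]
    rw [yy, J_apply_inr_inr]

theorem const_of_perp (w : Pt k → ZMod 2) (hw : 1 ⬝ᵥ w = 0) (hB : (Bm k)ᵀ *ᵥ w = 0) :
    ∃ c : ZMod 2, w = c • 1 := by
  have hx : ∀ i : Fin k, w (Sum.inl (i, 0)) = w (Sum.inl (i, 1)) := by
    intro i
    have h := congrFun hB (Sum.inl i)
    have h' : ∑ a, xv i a * w a = 0 := h
    rw [sum_Pt, xv_inr, xv_inr, zero_mul, zero_mul, add_zero, add_zero] at h'
    have h'' : ∀ l : Fin k, xv i (Sum.inl (l, 0)) * w (Sum.inl (l, 0))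
        + xv i (Sum.inl (l, 1)) * w (Sum.inl (l, 1))
        = (if l = i then 1 else 0) * (w (Sum.inl (l, 0)) + w (Sum.inl (l, 1))) := by
      intro l
      rw [xv_inl, xv_inl, mul_add]
    rw [Finset.sum_congr rfl (fun l _ => h'' l), sum_single] at h'
    exact CharTwo.add_eq_zero.mp h'
  have hy : ∀ i : Fin k, w (Sum.inl (i, 1)) = w (Sum.inr 0) := by
    intro i
    have h := congrFun hB (Sum.inr i)
    have h' : ∑ a, yv i a * w a = 0 := h
    rw [sum_Pt, yv_inr0, yv_inr1, one_mul, zero_mul, add_zero] at h'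
    have h'' : ∀ l : Fin k, yv i (Sum.inl (l, 0)) * w (Sum.inl (l, 0))
        + yv i (Sum.inl (l, 1)) * w (Sum.inl (l, 1))
        = (if l = i then 1 else 0) * w (Sum.inl (l, 1)) := by
      intro l
      rw [hx l, ← add_mul, yv_pair]
    rw [Finset.sum_congr rfl (fun l _ => h'' l), sum_single] at h'
    exact CharTwo.add_eq_zero.mp h'
  have h1 : w (Sum.inr 1) = w (Sum.inr 0) := by
    have h' : ∑ a, (1 : Pt k → ZMod 2) a * w a = 0 := hw
    simp only [Pi.one_apply, one_mul] at h'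
    rw [sum_Pt] at h'
    have h'' : ∑ l : Fin k, (w (Sum.inl (l, 0)) + w (Sum.inl (l, 1))) = 0 := by
      apply Finset.sum_eq_zero
      intro l _
      rw [hx l]
      exact add_self2 _
    rw [h'', zero_add] at h'
    exact (CharTwo.add_eq_zero.mp h').symm
  refine ⟨w (Sum.inr 0), ?_⟩
  funext a
  rw [Pi.smul_apply, Pi.one_apply, smul_eq_mul, mul_one]
  rcases a with ⟨l, c⟩ | c
  · fin_cases c
    · exact (hx l).trans (hy l)
    · exact hy l
  · fin_cases c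
    · rfl
    · exact h1

/-- The homomorphism `S_{2k+2} → Sp_{2k}(2)`. -/
def heart (k : ℕ) : Equiv.Perm (Pt k) →* Matrix.symplecticGroup (Fin k) (ZMod 2) :=
  hom (Bm k) one_Bm gram const_of_perp

theorem heart_injective (hk : 2 ≤ k) : Function.Injective (heart k) := by
  have h0 : 0 < k := by omega
  obtain ⟨c, hc⟩ : ∃ c : Equiv.Perm (Pt k),
      c = Equiv.swap (Sum.inl (⟨0, h0⟩, 1)) (Sum.inr 1) * Equiv.swap (Sum.inr 1) (Sum.inr 0) :=
    ⟨_, rfl⟩
  have hc1 : c (Sum.inl (⟨0, h0⟩, 1)) = Sum.inr 1 := by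
    rw [hc, Equiv.Perm.mul_apply, Equiv.swap_apply_of_ne_of_ne (a := (Sum.inr 1 : Pt k))
      (b := Sum.inr 0) (x := Sum.inl (⟨0, h0⟩, 1)) (by simp) (by simp), Equiv.swap_apply_left]
  have hc2 : c (Sum.inr 1) = Sum.inr 0 := by
    rw [hc, Equiv.Perm.mul_apply, Equiv.swap_apply_left,
      Equiv.swap_apply_of_ne_of_ne (by simp) (by simp)]
  apply hom_injective (Bm k) one_Bm gram const_of_perp (c := c)
  · rw [Nat.card_eq_fintype_card, Fintype.card_sum, Fintype.card_prod, Fintype.card_fin,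
      Fintype.card_fin]
    omega
  · rw [Equiv.Perm.mem_alternatingGroup, hc, map_mul, Equiv.Perm.sign_swap (by simp),
      Equiv.Perm.sign_swap (by simp)]
    rfl
  · intro h
    obtain ⟨d, hd⟩ := of_mem_ker (Bm k) one_Bm gram const_of_perp c h
    have e1 := hd (Sum.inr 0) (Sum.inl ⟨0, h0⟩)
    have e2 := hd (Sum.inr 1) (Sum.inl ⟨0, h0⟩)
    have i1 : c⁻¹ (Sum.inr 0) = Sum.inr 1 := by
      rw [Equiv.Perm.inv_eq_iff_eq, hc2]
    have i2 : c⁻¹ (Sum.inr 1) = Sum.inl (⟨0, h0⟩, 1) := by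
      rw [Equiv.Perm.inv_eq_iff_eq, hc1]
    rw [i1, Bm_inl, Bm_inl, xv_inr, xv_inr, zero_add] at e1
    rw [i2, Bm_inl, Bm_inl, xv_inr, xv_inl, if_pos rfl, e1, add_zero] at e2
    exact one_ne_zero e2

end concrete

end Cfsg.Agent.Lib.Helper2.HeartEmb
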