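import Mathlib
import Cfsg.Prelude.Def_Classical
import Cfsg.Agent.Lib.Helper2.HeartEmb

set_option autoImplicit false
set_option linter.unusedSectionVars false

namespace Cfsg.Agent.Lib.Helper2.WeightForm

open scoped Matrix
open Cfsg.Agent.Lib.Helper2.HeartEmb

section weight

variable {X : Type*} [Fintype X] [DecidableEq X]

/-- The weight of a vector over the field with two elements. -/
def wt (w : X → ZMod 2) : ℕ := ∑ a, (w a).val

/-- The weight form: half the weight, modulo two. -/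
def Qw (w : X → ZMod 2) : ZMod 2 := ((wt w / 2 : ℕ) : ZMod 2)

theorem wt_perm (σ : Equiv.Perm X) (w : X → ZMod 2) : wt (Pm σ *ᵥ w) = wt w := by
  unfold wt Pm
  rw [Matrix.permMatrix_mulVec]
  exact Equiv.sum_comp σ⁻¹ (fun a => (w a).val)

theorem Qw_perm (σ : Equiv.Perm X) (w : X → ZMod 2) : Qw (Pm σ *ᵥ w) = Qw w := by
  unfold Qw
  rw [wt_perm]

theorem val_add_mul : ∀ x y : ZMod 2, (x + y).val + 2 * (x * y).val = x.val + y.val := by decide

theorem wt_add (u v : X → ZMod 2) : wt (u + v) + 2 * wt (u * v) = wt u + wt v := by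
  unfold wt
  rw [Finset.mul_sum, ← Finset.sum_add_distrib, ← Finset.sum_add_distrib]
  apply Finset.sum_congr rfl
  intro a _
  exact val_add_mul (u a) (v a)

theorem cast_wt (w : X → ZMod 2) : ((wt w : ℕ) : ZMod 2) = 1 ⬝ᵥ w := by
  unfold wt dotProduct
  rw [Nat.cast_sum]
  apply Finset.sum_congr rfl
  intro a _
  rw [ZMod.natCast_zmod_val, Pi.one_apply, one_mul]

theorem cast_wt_mul (u v : X → ZMod 2) : ((wt (u * v) : ℕ) : ZMod 2) = u ⬝ᵥ v := by
  unfold wt dotProduct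
  rw [Nat.cast_sum]
  apply Finset.sum_congr rfl
  intro a _
  rw [ZMod.natCast_zmod_val, Pi.mul_apply]

theorem even_wt {w : X → ZMod 2} (h : 1 ⬝ᵥ w = 0) : Even (wt w) := by
  rw [← cast_wt] at h
  exact (ZMod.natCast_eq_zero_iff_even).mp h

/-- The weight form is quadratic on even-weight vectors, with polar form the dot product. -/
theorem Qw_add (u v : X → ZMod 2) (hu : 1 ⬝ᵥ u = 0) (hv : 1 ⬝ᵥ v = 0) :
    Qw (u + v) = Qw u + Qw v + u ⬝ᵥ v := by
  obtain ⟨a, ha⟩ := even_wt hu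
  obtain ⟨b, hb⟩ := even_wt hv
  have h := wt_add u v
  have h1 : wt (u + v) / 2 + wt (u * v) = a + b := by omega
  have h2 : wt u / 2 = a := by omega
  have h3 : wt v / 2 = b := by omega
  unfold Qw
  rw [h2, h3, ← cast_wt_mul, ← Nat.cast_add a b, ← h1, Nat.cast_add, add_assoc,
    CharTwo.add_self_eq_zero, add_zero]

theorem Qw_zero : Qw (0 : X → ZMod 2) = 0 := by
  unfold Qw wt
  simp

theorem val_add_one : ∀ x : ZMod 2, (x + 1).val + x.val = 1 := by decide

theorem wt_add_one (y : X → ZMod 2) : wt (y + 1) + wt y = Fintype.card X := by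
  unfold wt
  rw [← Finset.sum_add_distrib, Fintype.card_eq_sum_ones]
  apply Finset.sum_congr rfl
  intro a _
  exact val_add_one (y a)

/-- Adding the all-ones vector does not change the weight form, when `⌊|X|/2⌋` is even. -/
theorem Qw_add_one (hX : Even (Fintype.card X / 2)) (y : X → ZMod 2) (hy : 1 ⬝ᵥ y = 0) :
    Qw (y + 1) = Qw y := by
  obtain ⟨a, ha⟩ := even_wt hy
  obtain ⟨t, ht⟩ := hX
  have h := wt_add_one y
  have h1 : wt (y + 1) / 2 + a = t + t := by omega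
  have h2 : wt y / 2 = a := by omega
  unfold Qw
  rw [h2]
  have h3 : ((wt (y + 1) / 2 : ℕ) : ZMod 2) + (a : ZMod 2) = 0 := by
    rw [← Nat.cast_add, h1, Nat.cast_add]
    exact CharTwo.add_self_eq_zero _
  exact CharTwo.add_eq_zero.mp h3

end weight

section emb

variable {X : Type*} [Fintype X] [DecidableEq X] {ι : Type} [Fintype ι] [DecidableEq ι]
  (B : Matrix X ι (ZMod 2)) (C : Matrix ι X (ZMod 2)) (Q : (ι → ZMod 2) → ZMod 2)
  (o1 : C * B = 1) (o2 : 1 ᵥ* B = 0) (o3 : C *ᵥ 1 = 0)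
  (o4 : ∀ y : X → ZMod 2, 1 ⬝ᵥ y = 0 → ∃ c : ZMod 2, (B * C) *ᵥ y = y + c • 1)
  (o5 : ∀ v, Q v = Qw (B *ᵥ v))
  (o6 : ∀ y : X → ZMod 2, 1 ⬝ᵥ y = 0 → Qw (y + 1) = Qw y)

include o4 in
theorem BC_mul' {ι' : Type*} (Y : Matrix X ι' (ZMod 2)) (hY : 1 ᵥ* Y = 0) :
    ∃ c : ι' → ZMod 2, (B * C) * Y = Y + Matrix.vecMulVec 1 c := by
  have h : ∀ j, ∃ c : ZMod 2, (B * C) *ᵥ (fun a => Y a j) = (fun a => Y a j) + c • 1 := by
    intro j
    apply o4
    exact congrFun hY j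
  choose c hc using h
  refine ⟨c, ?_⟩
  ext a j
  have h4 := congrFun (hc j) a
  rw [Matrix.add_apply, Matrix.vecMulVec_apply, Pi.one_apply, one_mul]
  rw [Pi.add_apply, Pi.smul_apply, Pi.one_apply, smul_eq_mul, mul_one] at h4
  exact h4

include o4 in
theorem key' {ι₁ ι₂ : Type*} (X' : Matrix ι₁ X (ZMod 2)) (Y : Matrix X ι₂ (ZMod 2))
    (hX : X' *ᵥ 1 = 0) (hY : 1 ᵥ* Y = 0) : X' * (B * C) * Y = X' * Y := by
  obtain ⟨c, hc⟩ := BC_mul' B C o4 Y hY
  rw [Matrix.mul_assoc, hc, Matrix.mul_add, Matrix.mul_vecMulVec, hX]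
  have h0 : Matrix.vecMulVec (0 : ι₁ → ZMod 2) c = 0 := by
    ext i j; simp [Matrix.vecMulVec_apply]
  rw [h0, add_zero]

omit o4 in
/-- The hypothesis on `B * C` from an explicit matrix identity. -/
theorem o4_of_BC (l u : X → ZMod 2)
    (h : B * C = 1 + Matrix.vecMulVec 1 l + Matrix.vecMulVec u 1) :
    ∀ y : X → ZMod 2, 1 ⬝ᵥ y = 0 → ∃ c : ZMod 2, (B * C) *ᵥ y = y + c • 1 := by
  intro y hy
  refine ⟨l ⬝ᵥ y, ?_⟩
  rw [h, Matrix.add_mulVec, Matrix.add_mulVec, Matrix.one_mulVec, Matrix.vecMulVec_mulVec,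
    Matrix.vecMulVec_mulVec, hy]
  simp

/-- The matrix-valued homomorphism. -/
def mhom : Equiv.Perm X →* Matrix ι ι (ZMod 2) where
  toFun σ := C * Pm σ * B
  map_one' := by
    show C * Pm 1 * B = 1
    rw [Pm_one, Matrix.mul_one, o1]
  map_mul' σ τ := by
    show C * Pm (σ * τ) * B = (C * Pm σ * B) * (C * Pm τ * B)
    have h0 : (C * Pm σ) *ᵥ 1 = 0 := by
      rw [← Matrix.mulVec_mulVec, Pm_mulVec_one, o3]
    have h1' : 1 ᵥ* (Pm τ * B) = 0 := by
      rw [← Matrix.vecMul_vecMul, one_vecMul_Pm, o2]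
    have h4 := key' B C o4 (C * Pm σ) (Pm τ * B) h0 h1'
    rw [Pm_mul]
    simp only [Matrix.mul_assoc] at h4 ⊢
    exact h4.symm

theorem mhom_apply (σ : Equiv.Perm X) : mhom B C o1 o2 o3 o4 σ = C * Pm σ * B := rfl

include o2 o4 o5 o6 in
theorem Q_mhom (σ : Equiv.Perm X) (u : ι → ZMod 2) : Q ((C * Pm σ * B) *ᵥ u) = Q u := by
  have hy : 1 ⬝ᵥ (Pm σ *ᵥ (B *ᵥ u)) = 0 := by
    rw [Matrix.dotProduct_mulVec, one_vecMul_Pm, Matrix.dotProduct_mulVec, o2, zero_dotProduct]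
  obtain ⟨c, hc⟩ := o4 _ hy
  have e1 : B *ᵥ ((C * Pm σ * B) *ᵥ u) = (B * C) *ᵥ (Pm σ *ᵥ (B *ᵥ u)) := by
    simp only [Matrix.mulVec_mulVec, Matrix.mul_assoc]
  rw [o5, o5, e1, hc]
  have hall : ∀ d : ZMod 2, d = 0 ∨ d = 1 := by decide
  have hc' : c = 0 ∨ c = 1 := hall c
  rcases hc' with rfl | rfl
  · rw [zero_smul, add_zero, Qw_perm]
  · rw [one_smul, o6 _ hy, Qw_perm]

/-- The homomorphism into the isometry group. -/
def ohom : Equiv.Perm X →* ↥(Cfsg.isometryGroup (ZMod 2) Q) :=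
  (mhom B C o1 o2 o3 o4).toHomUnits.codRestrict _ (fun σ => by
    intro u v
    exact Q_mhom B C Q o2 o4 o5 o6 σ u)

theorem ohom_val (σ : Equiv.Perm X) :
    (((ohom B C Q o1 o2 o3 o4 o5 o6 σ : ↥(Cfsg.isometryGroup (ZMod 2) Q)) :
      Matrix.GeneralLinearGroup ι (ZMod 2)) : Matrix ι ι (ZMod 2)) = C * Pm σ * B := rfl

/-- Injectivity criterion. -/
theorem ohom_injective (hX : 5 ≤ Nat.card X) (c : Equiv.Perm X)
    (hc : c ∈ alternatingGroup X) (hne : C * Pm c * B ≠ 1) :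
    Function.Injective (ohom B C Q o1 o2 o3 o4 o5 o6) := by
  rw [← MonoidHom.ker_eq_bot_iff]
  by_contra h
  have hnt : Nontrivial ((ohom B C Q o1 o2 o3 o4 o5 o6).ker) :=
    (Subgroup.nontrivial_iff_ne_bot _).mpr h
  have hle := Equiv.Perm.alternatingGroup_le_of_normal hX hnt
  have h1 := MonoidHom.mem_ker.mp (hle hc)
  apply hne
  rw [← ohom_val B C Q o1 o2 o3 o4 o5 o6, h1]
  rfl

end emb

section transport

variable {R F : Type*} [Field R] [Field F] (e : R ≃+* F) {ι : Type} [Fintype ι] [DecidableEq ι]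
  (QR : (ι → R) → R) (QF : (ι → F) → F) (h : ∀ v : ι → R, QF (fun i => e (v i)) = e (QR v))

include h in
theorem map_mem_iso (g : Matrix.GeneralLinearGroup ι R) (hg : g ∈ Cfsg.isometryGroup R QR) :
    Matrix.GeneralLinearGroup.map (e : R →+* F) g ∈ Cfsg.isometryGroup F QF := by
  intro u v
  show QF ((g.1.map (e : R →+* F)) *ᵥ u) = QF u
  obtain ⟨u', hu'⟩ : ∃ u' : ι → R, u = fun i => e (u' i) :=
    ⟨fun i => e.symm (u i), by funext i; simp⟩
  have h1 : (g.1.map (e : R →+* F)) *ᵥ u = fun i => e ((g.1 *ᵥ u') i) := by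
    funext i
    rw [hu']
    exact (RingHom.map_mulVec (e : R →+* F) g.1 u' i).symm
  rw [h1, h, hu', h]
  congr 1
  exact hg u' u'

/-- Base change of isometry groups along a ring isomorphism. -/
def isoMap : ↥(Cfsg.isometryGroup R QR) →* ↥(Cfsg.isometryGroup F QF) :=
  ((Matrix.GeneralLinearGroup.map (e : R →+* F)).comp (Subgroup.subtype _)).codRestrict _
    (fun g => map_mem_iso e QR QF h g.1 g.2)

theorem isoMap_injective : Function.Injective (isoMap e QR QF h) := by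
  intro g g' hgg
  apply Subtype.ext
  apply Units.ext
  have h1 : (g.1.1).map (e : R →+* F) = (g'.1.1).map (e : R →+* F) := by
    have := congrArg (fun x : ↥(Cfsg.isometryGroup F QF) =>
      ((x : Matrix.GeneralLinearGroup ι F) : Matrix ι ι F)) hgg
    exact this
  exact Matrix.map_injective (e : R →+* F).injective h1

end transport

end Cfsg.Agent.Lib.Helper2.WeightForm
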