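import Mathlib
import Cfsg.Agent.Lib.Helper15.OrthGen
import Cfsg.Agent.Lib.Helper15.CD2
import Cfsg.Agent.Lib.Helper15.Spinor3
import Cfsg.Agent.Lib.Helper15.OrthOrder
import Cfsg.Agent.Lib.Helper2.Herm6b
import Cfsg.Agent.Lib.Helper2.Sp4O5
import Cfsg.Agent.Lib.Helper2.WeightForm
import Cfsg.Agent.S0286

set_option autoImplicit false

namespace Cfsg.Agent.Lib.Helper2.E6Tab

open scoped Matrix

/-- The index type of the five-dimensional space. -/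
abbrev T5 : Type := Unit ⊕ (Fin 2 ⊕ Fin 2)

/-- The index type of the six-dimensional space. -/
abbrev T6 : Type := (Fin 2 ⊕ Fin 2) ⊕ Fin 2

/-- The table of codes of the root vectors. -/
def kt : Fin 3 → Fin 3 → Fin 3 → Fin 3 → Fin 3 → ℕ :=
  ![![![![![0, 0, 0], ![0, 0, 0], ![0, 0, 0]], ![![0, 0, 1], ![0, 0, 2], ![0, 0, 3]], ![![0, 1, 0], ![0, 3, 0], ![0, 2, 0]]], ![![![0, 0, 0], ![0, 0, 0], ![4, 59, 63]], ![![0, 0, 6], ![0, 60, 0], ![58, 0, 0]], ![![0, 7, 0], ![0, 0, 57], ![62, 0, 0]]], ![![![0, 0, 0], ![4, 63, 59], ![0, 0, 0]], ![![0, 0, 7], ![62, 0, 0], ![0, 57, 0]], ![![0, 6, 0], ![58, 0, 0], ![0, 0, 60]]]], ![![![![0, 0, 0], ![0, 0, 0], ![0, 0, 0]], ![![0, 16, 0], ![0, 8, 0], ![0, 24, 0]], ![![0, 0, 21], ![0, 0, 32], ![0, 0, 53]]], ![![![0, 0, 0], ![41, 38, 15], ![0, 0, 0]], ![![0, 12, 0], ![39, 0, 0], ![0, 0, 43]], ![![0,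 0, 36], ![14, 0, 0], ![0, 42, 0]]], ![![![0, 0, 0], ![0, 0, 0], ![44, 50, 30]], ![![0, 28, 0], ![0, 0, 47], ![51, 0, 0]], ![![0, 0, 49], ![0, 46, 0], ![31, 0, 0]]]], ![![![![0, 0, 0], ![0, 0, 0], ![0, 0, 0]], ![![0, 21, 0], ![0, 53, 0], ![0, 32, 0]], ![![0, 0, 16], ![0, 0, 24], ![0, 0, 8]]], ![![![0, 0, 0], ![44, 30, 50], ![0, 0, 0]], ![![0, 49, 0], ![31, 0, 0], ![0, 0, 46]], ![![0, 0, 28], ![51, 0, 0], ![0, 47, 0]]], ![![![0, 0, 0], ![0, 0, 0], ![41, 15, 38]], ![![0, 36, 0], ![0, 0, 42], ![14, 0, 0]], ![![0, 0, 12], ![0, 43, 0], ![39, 0, 0]]]]]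

/-- The quadratic form in coordinates. -/
def Qc (a0 a1 a2 a3 a4 : ZMod 3) : ZMod 3 := a0 * a0 + a1 * a3 + a2 * a4

/-- The polar form in coordinates. -/
def pc (a0 a1 a2 a3 a4 b0 b1 b2 b3 b4 : ZMod 3) : ZMod 3 :=
  2 * a0 * b0 + (a1 * b3 + b1 * a3) + (a2 * b4 + b2 * a4)

/-- Selection by an element of the field with three elements. -/
def sel3 (t : ZMod 3) (x y z : ℕ) : ℕ := if t = 0 then x else if t = 1 then y else z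

/-- The code of the reflected vector. -/
def krc (a0 a1 a2 a3 a4 b0 b1 b2 b3 b4 : ZMod 3) : ℕ :=
  sel3 (Qc a0 a1 a2 a3 a4 * pc a0 a1 a2 a3 a4 b0 b1 b2 b3 b4) (kt b0 b1 b2 b3 b4)
    (kt (b0 - a0) (b1 - a1) (b2 - a2) (b3 - a3) (b4 - a4))
    (kt (b0 + a0) (b1 + a1) (b2 + a2) (b3 + a3) (b4 + a4))

/-- Linear combination of codes. -/
def x6 (k : ℕ) (c : Fin 6 → ℕ) : ℕ :=
  (if k.testBit 0 then c 0 else 0) ^^^ (if k.testBit 1 then c 1 else 0)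
    ^^^ (if k.testBit 2 then c 2 else 0) ^^^ (if k.testBit 3 then c 3 else 0)
    ^^^ (if k.testBit 4 then c 4 else 0) ^^^ (if k.testBit 5 then c 5 else 0)

/-- The simple roots. -/
def Uv : Fin 6 → T5 → ZMod 3 :=
  ![Sum.elim (fun _ => 0) (Sum.elim ![0, 1] ![0, 2]),
    Sum.elim (fun _ => 0) (Sum.elim ![0, 1] ![1, 2]),
    Sum.elim (fun _ => 0) (Sum.elim ![1, 0] ![2, 0]),
    Sum.elim (fun _ => 1) (Sum.elim ![0, 1] ![1, 1]),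
    Sum.elim (fun _ => 1) (Sum.elim ![0, 1] ![0, 1]),
    Sum.elim (fun _ => 1) (Sum.elim ![0, 2] ![1, 2])]

/-- The bits of a code. -/
def bits (n : ℕ) : Fin 6 → ZMod 2 := fun i => if n.testBit i then 1 else 0

/-- The quadratic form on the six-dimensional space in root coordinates. -/
def Q6p (x : Fin 6 → ZMod 2) : ZMod 2 :=
  x 0 + x 1 + x 2 + x 3 + x 4 + x 5 + x 0 * x 1 + x 1 * x 2 + x 2 * x 3 + x 3 * x 4 + x 2 * x 5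

/-- The change of basis. -/
def Bm : Matrix T6 (Fin 6) (ZMod 2) :=
  Matrix.of (Sum.elim (Sum.elim ![![0, 0, 0, 0, 1, 0], ![0, 0, 0, 1, 0, 1]] ![![0, 0, 0, 0, 1, 1], ![0, 0, 1, 1, 1, 1]]) ![![0, 1, 0, 0, 0, 0], ![1, 0, 1, 0, 0, 0]])

/-- The inverse change of basis. -/
def Bi : Matrix (Fin 6) T6 (ZMod 2) :=
  Matrix.of (![Sum.elim (Sum.elim ![1, 1] ![0, 1]) ![0, 1],
    Sum.elim (Sum.elim ![0, 0] ![0, 0]) ![1, 0],
    Sum.elim (Sum.elim ![1, 1] ![0, 1]) ![0, 0],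
    Sum.elim (Sum.elim ![1, 1] ![1, 0]) ![0, 0],
    Sum.elim (Sum.elim ![1, 0] ![0, 0]) ![0, 0],
    Sum.elim (Sum.elim ![1, 0] ![1, 0]) ![0, 0]])

/-- The matrix of the simple roots. -/
def UB : Matrix T5 (Fin 6) (ZMod 3) := Matrix.of fun i j => Uv j i

/-- A right inverse. -/
def UR : Matrix (Fin 6) T5 (ZMod 3) :=
  Matrix.of (![Sum.elim (fun _ => 1) (Sum.elim ![2, 2] ![2, 1]),
    Sum.elim (fun _ => 2) (Sum.elim ![1, 0] ![1, 0]),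
    Sum.elim (fun _ => 0) (Sum.elim ![1, 0] ![0, 0]),
    Sum.elim (fun _ => 2) (Sum.elim ![0, 1] ![0, 1]),
    Sum.elim (fun _ => 0) (Sum.elim ![0, 0] ![0, 0]),
    Sum.elim (fun _ => 2) (Sum.elim ![0, 2] ![0, 2])])

set_option maxRecDepth 100000 in
theorem d_refl : ∀ a0 a1 a2 a3 a4 : ZMod 3, Qc a0 a1 a2 a3 a4 ≠ 0 →
    ∀ b0 b1 b2 b3 b4 : ZMod 3, Qc b0 b1 b2 b3 b4 = 2 →
      krc a0 a1 a2 a3 a4 b0 b1 b2 b3 b4 = x6 (kt b0 b1 b2 b3 b4) (fun j =>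
        krc a0 a1 a2 a3 a4 (Uv j (Sum.inl ())) (Uv j (Sum.inr (Sum.inl 0)))
          (Uv j (Sum.inr (Sum.inl 1))) (Uv j (Sum.inr (Sum.inr 0)))
          (Uv j (Sum.inr (Sum.inr 1)))) := by
  decide +kernel



/-- The code of a vector. -/
def kc (u : T5 → ZMod 3) : ℕ :=
  kt (u (Sum.inl ())) (u (Sum.inr (Sum.inl 0))) (u (Sum.inr (Sum.inl 1)))
    (u (Sum.inr (Sum.inr 0))) (u (Sum.inr (Sum.inr 1)))

/-- The quadratic form of a vector, in coordinates. -/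
def Qv (u : T5 → ZMod 3) : ZMod 3 :=
  Qc (u (Sum.inl ())) (u (Sum.inr (Sum.inl 0))) (u (Sum.inr (Sum.inl 1)))
    (u (Sum.inr (Sum.inr 0))) (u (Sum.inr (Sum.inr 1)))

/-- The polar form of two vectors, in coordinates. -/
def pv (u v : T5 → ZMod 3) : ZMod 3 :=
  pc (u (Sum.inl ())) (u (Sum.inr (Sum.inl 0))) (u (Sum.inr (Sum.inl 1)))
    (u (Sum.inr (Sum.inr 0))) (u (Sum.inr (Sum.inr 1)))
    (v (Sum.inl ())) (v (Sum.inr (Sum.inl 0))) (v (Sum.inr (Sum.inl 1)))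
    (v (Sum.inr (Sum.inr 0))) (v (Sum.inr (Sum.inr 1)))

theorem d2 : ∀ b0 b1 b2 b3 b4 : ZMod 3, Qc b0 b1 b2 b3 b4 = 2 →
    Q6p (bits (kt b0 b1 b2 b3 b4)) = 1 := by
  decide +kernel

theorem d3 : ∀ x0 x1 x2 x3 x4 x5 : ZMod 2, Q6p ![x0, x1, x2, x3, x4, x5] = 1 →
    ∃ b0 b1 b2 b3 b4 : ZMod 3, Qc b0 b1 b2 b3 b4 = 2 ∧
      bits (kt b0 b1 b2 b3 b4) = ![x0, x1, x2, x3, x4, x5] := by
  decide +kernel

set_option maxRecDepth 100000 in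
theorem d4 : ∀ b0 b1 b2 b3 b4 : ZMod 3, Qc b0 b1 b2 b3 b4 = 2 →
    ∀ c0 c1 c2 c3 c4 : ZMod 3, Qc c0 c1 c2 c3 c4 = 2 →
      bits (kt b0 b1 b2 b3 b4) = bits (kt c0 c1 c2 c3 c4) →
        (c0 = b0 ∧ c1 = b1 ∧ c2 = b2 ∧ c3 = b3 ∧ c4 = b4) ∨
          (c0 = -b0 ∧ c1 = -b1 ∧ c2 = -b2 ∧ c3 = -b3 ∧ c4 = -b4) := by
  decide +kernel

theorem d5 : ∀ x0 x1 x2 x3 x4 x5 : ZMod 2,
    Cfsg.quadFormMinus 2 (ZMod 2) 1 1 (Bm *ᵥ ![x0, x1, x2, x3, x4, x5])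
      = Q6p ![x0, x1, x2, x3, x4, x5] := by
  decide +kernel

theorem d6 : Bm * Bi = 1 := by decide +kernel

theorem d7 : Bi * Bm = 1 := by decide +kernel

theorem d8 : UB * UR = 1 := by decide +kernel

theorem d9 : ∀ j : Fin 6, Qv (Uv j) = 2 := by decide +kernel

theorem d10 : ∀ i j : Fin 6, bits (kc (Uv j)) i = if i = j then 1 else 0 := by
  decide +kernel

theorem d11 : pv (Uv 0) (Uv 1) ≠ 0 ∧ pv (Uv 1) (Uv 2) ≠ 0 ∧ pv (Uv 2) (Uv 3) ≠ 0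
    ∧ pv (Uv 3) (Uv 4) ≠ 0 ∧ pv (Uv 2) (Uv 5) ≠ 0 := by
  decide +kernel

theorem z3_sq : ∀ t : ZMod 3, t ≠ 0 → t * t = 1 := by decide

theorem z3_cases : ∀ t : ZMod 3, t = 0 ∨ t = 1 ∨ t = 2 := by decide

theorem z3_two : (2 : ZMod 3) = -1 := by decide

theorem z3_pm : ∀ s : ZMod 3, s * s = 1 → s = 1 ∨ s = -1 := by decide

theorem z2_cases : ∀ t : ZMod 2, t = 0 ∨ t = 1 := by decide

end Cfsg.Agent.Lib.Helper2.E6Tab
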