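import Mathlib

set_option autoImplicit false

namespace Cfsg.Agent.Lib.Helper2.QuadCount

variable {F : Type*} [Field F] [Fintype F]

open Classical in
/-- Fibres of a nonzero linear functional `y ↦ ∑ x i * y i` on `ι → F`: `q^(n-1)` elements,
stated as `card * q = q ^ n`. -/
theorem card_dot_eq {ι : Type*} [Fintype ι] [DecidableEq ι] (x : ι → F) (hx : x ≠ 0) (c : F) :
    (Finset.univ.filter (fun y : ι → F => ∑ i, x i * y i = c)).card * Fintype.card F =
      Fintype.card F ^ Fintype.card ι := by
  let φ : (ι → F) →+ F :=
    { toFun := fun y => ∑ i, x i * y i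
      map_zero' := by simp
      map_add' := by intro a b; simp [mul_add, Finset.sum_add_distrib] }
  have hφ : ∀ y, φ y = ∑ i, x i * y i := fun y => rfl
  have hsurj : Function.Surjective φ := by
    obtain ⟨i0, hi0⟩ : ∃ i, x i ≠ 0 := by
      by_contra h
      push Not at h
      exact hx (funext h)
    intro d
    refine ⟨Pi.single i0 (d / x i0), ?_⟩
    rw [hφ, Finset.sum_eq_single i0]
    · rw [Pi.single_eq_same, mul_div_cancel₀ _ hi0]
    · intro b _ hb
      rw [Pi.single_eq_of_ne hb, mul_zero]
    · intro h; exact absurd (Finset.mem_univ _) h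
  have hfib : ∀ d : F, (Finset.univ.filter (fun y : ι → F => φ y = d)).card =
      (Finset.univ.filter (fun y : ι → F => φ y = c)).card := by
    intro d
    exact AddMonoidHom.card_fiber_eq_of_mem_range φ (hsurj d) (hsurj c)
  have hsum := Finset.card_eq_sum_card_fiberwise (f := φ) (s := Finset.univ) (t := Finset.univ)
    (fun y _ => Finset.mem_coe.mpr (Finset.mem_univ _))
  rw [Finset.sum_congr rfl (fun d _ => hfib d), Finset.sum_const, Finset.card_univ,
    Finset.card_univ, smul_eq_mul, Fintype.card_fun] at hsum
  rw [hsum, mul_comm]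
  rfl

open Classical in
theorem card_zeros_aux {E : Type*} [Fintype E] (k : ℕ) (h : E → F) :
    (Finset.univ.filter (fun p : (Fin k → F) × (Fin k → F) × E =>
        ∑ i, p.1 i * p.2.1 i + h p.2.2 = 0)).card * Fintype.card F =
      Fintype.card F ^ (k + 1) * (Finset.univ.filter (fun e : E => h e = 0)).card +
        Fintype.card E * (Fintype.card F ^ k - 1) * Fintype.card F ^ k := by
  have h1 : (Finset.univ.filter (fun p : (Fin k → F) × (Fin k → F) × E =>
        ∑ i, p.1 i * p.2.1 i + h p.2.2 = 0)).card =
      ∑ x : Fin k → F, ∑ e : E,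
        (Finset.univ.filter (fun y : Fin k → F => ∑ i, x i * y i = - h e)).card := by
    rw [Finset.card_filter, Fintype.sum_prod_type]
    refine Finset.sum_congr rfl (fun x _ => ?_)
    rw [Fintype.sum_prod_type, Finset.sum_comm]
    refine Finset.sum_congr rfl (fun e _ => ?_)
    rw [Finset.card_filter]
    refine Finset.sum_congr rfl (fun y _ => ?_)
    simp only [eq_neg_iff_add_eq_zero]
  rw [h1, Finset.sum_mul, ← Finset.add_sum_erase Finset.univ _ (Finset.mem_univ (0 : Fin k → F))]
  congr 1
  · -- x = 0
    rw [Finset.sum_mul]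
    have : ∀ e : E, (Finset.univ.filter (fun y : Fin k → F =>
        ∑ i, (0 : Fin k → F) i * y i = - h e)).card * Fintype.card F =
        if h e = 0 then Fintype.card F ^ (k + 1) else 0 := by
      intro e
      split_ifs with he
      · rw [Finset.filter_true_of_mem (by intro y _; simp [he]), Finset.card_univ,
          Fintype.card_pi_const, pow_succ]
      · rw [Finset.filter_false_of_mem (by
          intro y _
          simp only [Pi.zero_apply, zero_mul, Finset.sum_const_zero]
          intro h0
          exact he (neg_eq_zero.mp h0.symm)), Finset.card_empty, zero_mul]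
    rw [Finset.sum_congr rfl (fun e _ => this e), Finset.sum_ite, Finset.sum_const_zero, add_zero,
      Finset.sum_const, smul_eq_mul, mul_comm]
  · have : ∀ x ∈ (Finset.univ : Finset (Fin k → F)).erase 0, (∑ e : E,
        (Finset.univ.filter (fun y : Fin k → F => ∑ i, x i * y i = - h e)).card) *
          Fintype.card F = Fintype.card E * Fintype.card F ^ k := by
      intro x hx
      have hx0 : x ≠ 0 := (Finset.mem_erase.mp hx).1
      rw [Finset.sum_mul, Finset.sum_congr rfl (fun e _ => card_dot_eq x hx0 (- h e)),
        Finset.sum_const, Finset.card_univ, smul_eq_mul, Fintype.card_fin]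
    rw [Finset.sum_congr rfl this, Finset.sum_const, Finset.card_erase_of_mem (Finset.mem_univ _),
      Finset.card_univ, Fintype.card_pi_const, smul_eq_mul]
    ring

/-- Number of zeros of a function of the shape `∑ x_i y_i + h(e)` on a space identified with
`F^k × F^k × E`, stated as `card * q = q^(k+1) * #{h = 0} + |E| (q^k - 1) q^k`. -/
theorem card_zeros {V E : Type*} [Fintype E] (k : ℕ) (h : E → F)
    (φ : V ≃ (Fin k → F) × (Fin k → F) × E) (Q : V → F)
    (hQ : ∀ v, Q v = ∑ i, (φ v).1 i * (φ v).2.1 i + h (φ v).2.2) :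
    Nat.card {v : V // Q v = 0} * Fintype.card F =
      Fintype.card F ^ (k + 1) * Nat.card {e : E // h e = 0} +
        Fintype.card E * (Fintype.card F ^ k - 1) * Fintype.card F ^ k := by
  classical
  have e1 : {v : V // Q v = 0} ≃ {p : (Fin k → F) × (Fin k → F) × E //
      ∑ i, p.1 i * p.2.1 i + h p.2.2 = 0} :=
    Equiv.subtypeEquiv φ (fun v => by rw [hQ])
  rw [Nat.card_congr e1, Nat.card_eq_fintype_card, Nat.card_eq_fintype_card,
    Fintype.card_subtype, Fintype.card_subtype]
  exact card_zeros_aux k h

end Cfsg.Agent.Lib.Helper2.QuadCount
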