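import Mathlib
import Cfsg.Prelude.Def_Classical
import Cfsg.Agent.Lib.Helper2.WeightForm
import Cfsg.Agent.S0287

set_option autoImplicit false

namespace Cfsg.Agent.Lib.Helper2.O6Plus

open scoped Matrix
open Cfsg.Agent.Lib.Helper2.HeartEmb Cfsg.Agent.Lib.Helper2.WeightForm

/-- The first halves of three hyperbolic pairs of weight-four vectors. -/
def uv8 : Fin 3 → Fin 8 → ZMod 2 :=
  ![![1,1,0,0,1,1,0,0], ![0,0,1,0,1,1,1,0], ![1,0,1,1,1,0,0,0]]

/-- The second halves. -/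
def vv8 : Fin 3 → Fin 8 → ZMod 2 :=
  ![![0,1,1,1,0,0,1,0], ![0,0,0,1,1,1,1,0], ![1,0,1,1,0,1,0,0]]

/-- The matrix whose columns are the basis vectors. -/
def B8 : Matrix (Fin 8) (Fin 3 ⊕ Fin 3) (ZMod 2) :=
  Matrix.of fun a j => Sum.elim (fun i => uv8 i a) (fun i => vv8 i a) j

/-- The matrix of dual coordinates. -/
def C8 : Matrix (Fin 3 ⊕ Fin 3) (Fin 8) (ZMod 2) :=
  Matrix.of fun j a => Sum.elim (fun i => vv8 i a) (fun i => uv8 i a) j

/-- Auxiliary vector. -/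
def l8 : Fin 8 → ZMod 2 := ![0,0,0,0,0,0,0,1]

/-- Auxiliary vector. -/
def u8 : Fin 8 → ZMod 2 := ![1,1,1,1,1,1,1,0]

theorem CB8 : C8 * B8 = 1 := by decide

theorem BC8 : B8 * C8 = 1 + Matrix.vecMulVec 1 l8 + Matrix.vecMulVec u8 1 := by decide

theorem C18 : C8 *ᵥ 1 = 0 := by decide

theorem oneB8 : 1 ᵥ* B8 = 0 := by decide

set_option maxRecDepth 100000 in
theorem Q8 : ∀ v : Fin 3 ⊕ Fin 3 → ZMod 2,
    Cfsg.quadFormPlus 3 (ZMod 2) v = Qw (B8 *ᵥ v) := by decide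

theorem o4_8 : ∀ y : Fin 8 → ZMod 2, 1 ⬝ᵥ y = 0 → ∃ c : ZMod 2, (B8 * C8) *ᵥ y = y + c • 1 :=
  o4_of_BC B8 C8 l8 u8 BC8

theorem o6_8 : ∀ y : Fin 8 → ZMod 2, 1 ⬝ᵥ y = 0 → Qw (y + 1) = Qw y :=
  Qw_add_one (by rw [Fintype.card_fin]; decide)

/-- The embedding of `S₈` into `O⁺₆(2)`. -/
def emb8 : Equiv.Perm (Fin 8) →* ↥(Cfsg.isometryGroup (ZMod 2) (Cfsg.quadFormPlus 3 (ZMod 2))) :=
  ohom B8 C8 (Cfsg.quadFormPlus 3 (ZMod 2)) CB8 oneB8 C18 o4_8 Q8 o6_8

theorem ne8 : C8 * Pm (Equiv.swap (0 : Fin 8) 1 * Equiv.swap 1 2) * B8 ≠ 1 := by decide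

theorem emb8_injective : Function.Injective emb8 :=
  ohom_injective B8 C8 (Cfsg.quadFormPlus 3 (ZMod 2)) CB8 oneB8 C18 o4_8 Q8 o6_8
    (by rw [Nat.card_eq_fintype_card, Fintype.card_fin]; decide)
    (Equiv.swap (0 : Fin 8) 1 * Equiv.swap 1 2)
    (by rw [Equiv.Perm.mem_alternatingGroup]; decide) ne8

theorem qplus_map {F : Type*} [Field F] (e : ZMod 2 ≃+* F) (v : Fin 3 ⊕ Fin 3 → ZMod 2) :
    Cfsg.quadFormPlus 3 F (fun i => e (v i)) = e (Cfsg.quadFormPlus 3 (ZMod 2) v) := by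
  simp [Cfsg.quadFormPlus]

/-- The embedding of `S₈` into `O⁺₆(F)` for a field with two elements. -/
noncomputable def emb8F {F : Type*} [Field F] [Fintype F] (hF : Fintype.card F = 2) :
    Equiv.Perm (Fin 8) →* ↥(Cfsg.isometryGroup F (Cfsg.quadFormPlus 3 F)) :=
  (isoMap (ZMod.ringEquivOfPrime F Nat.prime_two hF) (Cfsg.quadFormPlus 3 (ZMod 2))
    (Cfsg.quadFormPlus 3 F) (qplus_map _)).comp emb8

theorem emb8F_bijective {F : Type*} [Field F] [Fintype F] (hF : Fintype.card F = 2) :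
    Function.Bijective (emb8F hF) := by
  have hinj : Function.Injective (emb8F hF) :=
    (isoMap_injective (ZMod.ringEquivOfPrime F Nat.prime_two hF) (Cfsg.quadFormPlus 3 (ZMod 2))
      (Cfsg.quadFormPlus 3 F) (qplus_map _)).comp emb8_injective
  rw [Nat.bijective_iff_injective_and_card]
  refine ⟨hinj, ?_⟩
  rw [Cfsg.Agent.S0287.result hF 3 (by norm_num), Nat.card_perm, Nat.card_eq_fintype_card,
    Fintype.card_fin]
  decide

theorem emb8_bijective : Function.Bijective emb8 := by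
  rw [Nat.bijective_iff_injective_and_card]
  refine ⟨emb8_injective, ?_⟩
  rw [Cfsg.Agent.S0287.result (ZMod.card 2) 3 (by norm_num), Nat.card_perm, Nat.card_eq_fintype_card,
    Fintype.card_fin]
  decide

/-- Transport of the commutator subgroup along an isomorphism with a symmetric group. -/
theorem omega_of_equiv {G : Type*} [Group G] {n : ℕ} (hn : 5 ≤ n) (ψ : G ≃* Equiv.Perm (Fin n)) :
    (commutator G).index = 2 ∧ Nonempty (↥(commutator G) ≃* alternatingGroup (Fin n)) := by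
  have hcard : 5 ≤ Nat.card (Fin n) := by
    rw [Nat.card_eq_fintype_card, Fintype.card_fin]
    exact hn
  have h1 : (commutator G).map (ψ : G →* Equiv.Perm (Fin n)) = alternatingGroup (Fin n) := by
    rw [← alternatingGroup.commutator_perm_eq hcard]
    unfold commutator
    rw [Subgroup.map_commutator, Subgroup.map_top_of_surjective _ ψ.surjective]
  have : Nontrivial (Fin n) := Fin.nontrivial_iff_two_le.mpr (by omega)
  refine ⟨?_, ⟨(ψ.subgroupMap (commutator G)).trans (MulEquiv.subgroupCongr h1)⟩⟩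
  rw [← Subgroup.index_map_equiv (commutator G) ψ, h1]
  exact alternatingGroup.index_eq_two

end Cfsg.Agent.Lib.Helper2.O6Plus
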