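import Mathlib
import Cfsg.Prelude.Def_Classical
import Cfsg.Agent.Lib.Helper2.SLGen
import Cfsg.Agent.Lib.Helper2.O6Plus
import Cfsg.Agent.S0249
import Cfsg.Agent.S0243

set_option autoImplicit false

namespace Cfsg.Agent.Lib.Helper2.Ext2

open scoped Matrix

/-- The index type of the exterior square of a four-dimensional space. -/
abbrev I6 : Type := Fin 3 ⊕ Fin 3

/-- The pair of indices attached to an index of the exterior square. -/
def pr : I6 → Fin 4 × Fin 4 := Sum.elim ![(0, 1), (0, 2), (0, 3)] ![(2, 3), (1, 3), (1, 2)]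

theorem pr_l0 : pr (Sum.inl 0) = (0, 1) := rfl
theorem pr_l1 : pr (Sum.inl 1) = (0, 2) := rfl
theorem pr_l2 : pr (Sum.inl 2) = (0, 3) := rfl
theorem pr_r0 : pr (Sum.inr 0) = (2, 3) := rfl
theorem pr_r1 : pr (Sum.inr 1) = (1, 3) := rfl
theorem pr_r2 : pr (Sum.inr 2) = (1, 2) := rfl

section comm

variable {R : Type*} [CommRing R]

/-- The second compound matrix of a four-by-four matrix. -/
def Lam (g : Matrix (Fin 4) (Fin 4) R) : Matrix I6 I6 R :=
  Matrix.of fun I J =>
    g (pr I).1 (pr J).1 * g (pr I).2 (pr J).2 - g (pr I).1 (pr J).2 * g (pr I).2 (pr J).1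

theorem cauchy_binet (g h : Matrix (Fin 4) (Fin 4) R) (a b c d : Fin 4) :
    (g * h) a c * (g * h) b d - (g * h) a d * (g * h) b c
      = ∑ K : I6, (g a (pr K).1 * g b (pr K).2 - g a (pr K).2 * g b (pr K).1)
          * (h (pr K).1 c * h (pr K).2 d - h (pr K).1 d * h (pr K).2 c) := by
  simp only [Matrix.mul_apply, Fin.sum_univ_four, Fintype.sum_sum_type, Fin.sum_univ_three,
    pr_l0, pr_l1, pr_l2, pr_r0, pr_r1, pr_r2]
  ring

theorem Lam_mul (g h : Matrix (Fin 4) (Fin 4) R) : Lam (g * h) = Lam g * Lam h := by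
  ext I J
  rw [Matrix.mul_apply]
  exact cauchy_binet g h _ _ _ _

theorem Lam_one : Lam (1 : Matrix (Fin 4) (Fin 4) R) = 1 := by
  ext I J
  rcases I with i | i <;> rcases J with j | j <;> fin_cases i <;> fin_cases j <;>
    simp [Lam, pr, Matrix.one_apply]

end comm

theorem tv_iso : ∀ (i j : Fin 4) (c : ZMod 2), i ≠ j → ∀ v : I6 → ZMod 2,
    Cfsg.quadFormPlus 3 (ZMod 2) (Lam (Matrix.transvection i j c) *ᵥ v)
      = Cfsg.quadFormPlus 3 (ZMod 2) v := by decide

theorem tv_ne : Lam (Matrix.transvection (0 : Fin 4) 1 (1 : ZMod 2)) ≠ 1 := by decide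

open Cfsg.Agent.Lib.Helper2.O6Plus Cfsg.Agent.Lib.Helper2.SLGen

/-- The exterior square as a monoid homomorphism. -/
def lamM : Matrix.SpecialLinearGroup (Fin 4) (ZMod 2) →* Matrix I6 I6 (ZMod 2) where
  toFun A := Lam A.1
  map_one' := Lam_one
  map_mul' A B := Lam_mul A.1 B.1

theorem lam_iso (A : Matrix.SpecialLinearGroup (Fin 4) (ZMod 2)) :
    ∀ v : I6 → ZMod 2, Cfsg.quadFormPlus 3 (ZMod 2) (Lam A.1 *ᵥ v)
      = Cfsg.quadFormPlus 3 (ZMod 2) v := by
  refine transvection_induction (fun A : Matrix.SpecialLinearGroup (Fin 4) (ZMod 2) =>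
    ∀ v : I6 → ZMod 2, Cfsg.quadFormPlus 3 (ZMod 2) (Lam A.1 *ᵥ v)
      = Cfsg.quadFormPlus 3 (ZMod 2) v) ?_ ?_ A
  · intro i j hij c v
    have h1 : (Matrix.SpecialLinearGroup.transvection hij c).1 = Matrix.transvection i j c :=
      Matrix.SpecialLinearGroup.transvection_coe hij c
    rw [h1]
    exact tv_iso i j c hij v
  · intro A B hA hB v
    have h1 : (A * B).1 = A.1 * B.1 := rfl
    rw [h1, Lam_mul, ← Matrix.mulVec_mulVec, hA, hB]

/-- The exterior square as a homomorphism into the orthogonal group. -/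
def lamO : Matrix.SpecialLinearGroup (Fin 4) (ZMod 2) →*
    ↥(Cfsg.isometryGroup (ZMod 2) (Cfsg.quadFormPlus 3 (ZMod 2))) :=
  lamM.toHomUnits.codRestrict _ (fun A u _ => lam_iso A u)

theorem lamO_val (A : Matrix.SpecialLinearGroup (Fin 4) (ZMod 2)) :
    (((lamO A : ↥(Cfsg.isometryGroup (ZMod 2) (Cfsg.quadFormPlus 3 (ZMod 2)))) :
      Matrix.GeneralLinearGroup I6 (ZMod 2)) : Matrix I6 I6 (ZMod 2)) = Lam A.1 := rfl

section field

variable {F : Type*} [Field F] [Fintype F] (hF : Fintype.card F = 2)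

/-- The homomorphism from `SL₄(F)` to `S₈`. -/
noncomputable def toPerm : Matrix.SpecialLinearGroup (Fin 4) F →* Equiv.Perm (Fin 8) :=
  ((MulEquiv.ofBijective emb8 emb8_bijective).symm.toMonoidHom.comp lamO).comp
    (Matrix.SpecialLinearGroup.map
      ((ZMod.ringEquivOfPrime F Nat.prime_two hF).symm : F →+* ZMod 2))

include hF in
theorem zero_or_one (x : F) : x = 0 ∨ x = 1 := by
  have e := ZMod.ringEquivOfPrime F Nat.prime_two hF
  have h : ∀ y : ZMod 2, y = 0 ∨ y = 1 := by decide
  rcases h (e.symm x) with h1 | h1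
  · left
    have := congrArg e h1
    rwa [RingEquiv.apply_symm_apply, map_zero] at this
  · right
    have := congrArg e h1
    rwa [RingEquiv.apply_symm_apply, map_one] at this

include hF in
theorem center_eq_bot : Subgroup.center (Matrix.SpecialLinearGroup (Fin 4) F) = ⊥ := by
  rw [eq_bot_iff]
  intro z hz
  obtain ⟨r, hr, hz'⟩ := Matrix.SpecialLinearGroup.mem_center_iff.mp hz
  rw [Subgroup.mem_bot]
  have hr1 : r = 1 := by
    rcases zero_or_one hF r with h | h
    · rw [h, Fintype.card_fin, zero_pow (by norm_num)] at hr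
      exact absurd hr zero_ne_one
    · exact h
  apply Subtype.ext
  rw [← hz', hr1, map_one]
  rfl

theorem center_le_ker :
    Subgroup.center (Matrix.SpecialLinearGroup (Fin 4) F) ≤ (toPerm hF).ker := by
  rw [center_eq_bot hF]
  exact bot_le

/-- The homomorphism from `PSL₄(F)` to `S₈`. -/
noncomputable def toPermP : Matrix.ProjectiveSpecialLinearGroup (Fin 4) F →* Equiv.Perm (Fin 8) :=
  QuotientGroup.lift _ (toPerm hF) (center_le_ker hF)

theorem toPermP_injective : Function.Injective (toPermP hF) := by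
  have hs : IsSimpleGroup (Matrix.ProjectiveSpecialLinearGroup (Fin 4) F) :=
    Cfsg.Agent.S0249.result 4 (by norm_num)
  rw [← MonoidHom.ker_eq_bot_iff]
  rcases (toPermP hF).normal_ker.eq_bot_or_eq_top with h | h
  · exact h
  · exfalso
    obtain ⟨t0, ht0⟩ : ∃ t0 : Matrix.SpecialLinearGroup (Fin 4) (ZMod 2),
        t0.1 = Matrix.transvection (0 : Fin 4) 1 (1 : ZMod 2) :=
      ⟨Matrix.SpecialLinearGroup.transvection (by decide : (0 : Fin 4) ≠ 1) 1,
        Matrix.SpecialLinearGroup.transvection_coe _ _⟩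
    obtain ⟨g0, hg0⟩ : ∃ g0 : Matrix.SpecialLinearGroup (Fin 4) F,
        Matrix.SpecialLinearGroup.map
          ((ZMod.ringEquivOfPrime F Nat.prime_two hF).symm : F →+* ZMod 2) g0 = t0 := by
      refine ⟨Matrix.SpecialLinearGroup.map
        ((ZMod.ringEquivOfPrime F Nat.prime_two hF : ZMod 2 ≃+* F) : ZMod 2 →+* F) t0, ?_⟩
      apply Subtype.ext
      ext i j
      show (ZMod.ringEquivOfPrime F Nat.prime_two hF).symm
        ((ZMod.ringEquivOfPrime F Nat.prime_two hF) (t0.1 i j)) = t0.1 i j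
      exact RingEquiv.symm_apply_apply _ _
    have h1 : (QuotientGroup.mk g0 : Matrix.ProjectiveSpecialLinearGroup (Fin 4) F)
        ∈ (toPermP hF).ker := by
      rw [h]
      exact Subgroup.mem_top _
    have h2 : toPerm hF g0 = 1 := MonoidHom.mem_ker.mp h1
    have h3 : (MulEquiv.ofBijective emb8 emb8_bijective).symm (lamO t0) = 1 := by
      rw [← hg0]
      exact h2
    have h4 : lamO t0 = 1 := by
      rw [MulEquiv.map_eq_one_iff] at h3
      exact h3
    apply tv_ne
    rw [← ht0, ← lamO_val, h4]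
    rfl

theorem toPermP_mem (x : Matrix.ProjectiveSpecialLinearGroup (Fin 4) F) :
    toPermP hF x ∈ alternatingGroup (Fin 8) := by
  have h1 : Group.IsPerfect (Matrix.SpecialLinearGroup (Fin 4) F) :=
    ⟨Cfsg.Agent.Lib.Helper2.SLGen.commutator_eq_top (by simp)⟩
  have h2 : Group.IsPerfect (Matrix.ProjectiveSpecialLinearGroup (Fin 4) F) := inferInstance
  have h3 : x ∈ commutator (Matrix.ProjectiveSpecialLinearGroup (Fin 4) F) := by
    rw [h2.commutator_eq_top]
    exact Subgroup.mem_top _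
  have h4 : toPermP hF x ∈ (commutator (Matrix.ProjectiveSpecialLinearGroup (Fin 4) F)).map
      (toPermP hF) := Subgroup.mem_map_of_mem _ h3
  have hcard : 5 ≤ Nat.card (Fin 8) := by
    rw [Nat.card_eq_fintype_card, Fintype.card_fin]
    norm_num
  rw [← alternatingGroup.commutator_perm_eq hcard]
  unfold commutator at h4 ⊢
  rw [Subgroup.map_commutator] at h4
  exact Subgroup.commutator_mono le_top le_top h4

include hF in
/-- `PSL₄(2) ≅ A₈`. -/
theorem psl4_equiv :
    Nonempty (Matrix.ProjectiveSpecialLinearGroup (Fin 4) F ≃* alternatingGroup (Fin 8)) := by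
  have hinj : Function.Injective ((toPermP hF).codRestrict (alternatingGroup (Fin 8))
      (toPermP_mem hF)) := by
    intro x y hxy
    apply toPermP_injective hF
    exact congrArg Subtype.val hxy
  have hbij : Function.Bijective ((toPermP hF).codRestrict (alternatingGroup (Fin 8))
      (toPermP_mem hF)) := by
    rw [Nat.bijective_iff_injective_and_card]
    refine ⟨hinj, ?_⟩
    have h1 := Cfsg.Agent.S0243.result hF 4 (by norm_num)
    have h2 : Nat.card (alternatingGroup (Fin 8)) = 20160 := by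
      rw [nat_card_alternatingGroup, Nat.card_eq_fintype_card, Fintype.card_fin]
      decide
    rw [h2]
    have h3 : ∏ i : Fin 4, (2 ^ 4 - 2 ^ (i : ℕ)) = 20160 := by decide
    rw [h3] at h1
    simpa using h1
  exact ⟨MulEquiv.ofBijective _ hbij⟩

end field

end Cfsg.Agent.Lib.Helper2.Ext2
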