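import Mathlib
import Cfsg.Agent.Lib.Helper2.SLGen
import Cfsg.Agent.Lib.Helper2.Ext2
import Cfsg.Agent.S0243

set_option autoImplicit false

namespace Cfsg.Agent.Lib.Helper2.Fano7

open scoped Matrix

/-- Vectors of the plane over the field with seven elements. -/
abbrev V7 : Type := Fin 2 → ZMod 7

/-- Vectors of the three-space over the field with two elements. -/
abbrev V2 : Type := Fin 3 → ZMod 2

/-- The table of the affine coordinates of the points of the projective line. -/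
def bt : Fin 7 → Fin 7 → Fin 3 → ZMod 2 :=
  ![![![0, 0, 0], ![1, 0, 0], ![1, 0, 0], ![1, 0, 0], ![1, 0, 0], ![1, 0, 0], ![1, 0, 0]],
    ![![0, 0, 0], ![0, 1, 0], ![0, 1, 1], ![1, 1, 1], ![0, 0, 1], ![1, 1, 0], ![1, 0, 1]],
    ![![0, 0, 0], ![0, 0, 1], ![0, 1, 0], ![1, 1, 0], ![0, 1, 1], ![1, 0, 1], ![1, 1, 1]],
    ![![0, 0, 0], ![1, 1, 0], ![1, 1, 1], ![0, 1, 0], ![1, 0, 1], ![0, 0, 1], ![0, 1, 1]],
    ![![0, 0, 0], ![0, 1, 1], ![0, 0, 1], ![1, 0, 1], ![0, 1, 0], ![1, 1, 1], ![1, 1, 0]],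
    ![![0, 0, 0], ![1, 1, 1], ![1, 0, 1], ![0, 1, 1], ![1, 1, 0], ![0, 1, 0], ![0, 0, 1]],
    ![![0, 0, 0], ![1, 0, 1], ![1, 1, 0], ![0, 0, 1], ![1, 1, 1], ![0, 1, 1], ![0, 1, 0]]]

/-- The affine coordinates of a point of the projective line. -/
def beta (w : V7) : V2 := bt (w 0) (w 1)

/-- The table of representatives. -/
def st : Fin 2 → Fin 2 → Fin 2 → V7 :=
  ![![![![1, 0], ![2, 1]], ![![1, 1], ![4, 1]]], ![![![0, 1], ![6, 1]], ![![3, 1], ![5, 1]]]]

/-- A representative vector of the point with given affine coordinates. -/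
def sec (v : V2) : V7 := st (v 0) (v 1) (v 2)

/-- The induced map on affine coordinates. -/
def act (g : Matrix (Fin 2) (Fin 2) (ZMod 7)) (v : V2) : V2 := beta (g *ᵥ sec v)

/-- The linear part. -/
def Mm (g : Matrix (Fin 2) (Fin 2) (ZMod 7)) : Matrix (Fin 3) (Fin 3) (ZMod 2) :=
  Matrix.of fun i j => act g (Pi.single j 1) i + act g 0 i

theorem d1 : ∀ v : V2, beta (sec v) = v := by decide

theorem d1' : ∀ v : V2, sec v ≠ 0 := by decide

theorem d2' : ∀ a b l : ZMod 7, l ≠ 0 → bt (l * a) (l * b) = bt a b := by decide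

theorem d2 (w : V7) (l : ZMod 7) (hl : l ≠ 0) : beta (l • w) = beta w :=
  d2' (w 0) (w 1) l hl

theorem d3' : ∀ a b : ZMod 7, (a ≠ 0 ∨ b ≠ 0) →
    ∃ l : ZMod 7, l ≠ 0 ∧ st (bt a b 0) (bt a b 1) (bt a b 2) = ![l * a, l * b] := by decide

theorem d3 (w : V7) (hw : w ≠ 0) : ∃ l : ZMod 7, l ≠ 0 ∧ sec (beta w) = l • w := by
  have h0 : w 0 ≠ 0 ∨ w 1 ≠ 0 := by
    by_contra h
    push_neg at h
    apply hw
    ext i
    fin_cases i
    · exact h.1
    · exact h.2
  obtain ⟨l, hl, h⟩ := d3' (w 0) (w 1) h0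
  refine ⟨l, hl, ?_⟩
  have h1 : sec (beta w) = ![l * w 0, l * w 1] := h
  rw [h1]
  ext i
  fin_cases i <;> rfl

theorem d4 : ∀ (i j : Fin 2) (c : ZMod 7), i ≠ j → ∀ v : V2,
    act (Matrix.transvection i j c) v
      = Mm (Matrix.transvection i j c) *ᵥ v + act (Matrix.transvection i j c) 0 := by decide

theorem d5 : Mm (Matrix.transvection (0 : Fin 2) 1 (1 : ZMod 7)) ≠ 1 := by decide

theorem d6 : ∀ r : ZMod 7, r * r = 1 → Mm (r • (1 : Matrix (Fin 2) (Fin 2) (ZMod 7))) = 1 := by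
  decide

theorem act_comp (g h : Matrix (Fin 2) (Fin 2) (ZMod 7)) (hh : ∀ w : V7, w ≠ 0 → h *ᵥ w ≠ 0)
    (v : V2) : act (g * h) v = act g (act h v) := by
  unfold act
  have hw : h *ᵥ sec v ≠ 0 := hh _ (d1' v)
  obtain ⟨l, hl, hs⟩ := d3 (h *ᵥ sec v) hw
  rw [hs, Matrix.mulVec_smul, d2 _ l hl, Matrix.mulVec_mulVec]

/-- The induced map is affine. -/
def Aff (g : Matrix (Fin 2) (Fin 2) (ZMod 7)) : Prop :=
  ∀ v : V2, act g v = Mm g *ᵥ v + act g 0

theorem aff_mul (g h : Matrix (Fin 2) (Fin 2) (ZMod 7)) (hh : ∀ w : V7, w ≠ 0 → h *ᵥ w ≠ 0)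
    (hg : Aff g) (hA : Aff h) : Aff (g * h) ∧ Mm (g * h) = Mm g * Mm h := by
  have key : ∀ v, act (g * h) v = (Mm g * Mm h) *ᵥ v + (Mm g *ᵥ act h 0 + act g 0) := by
    intro v
    rw [act_comp g h hh, hA v, hg, Matrix.mulVec_add, Matrix.mulVec_mulVec, add_assoc]
  have h0 : act (g * h) 0 = Mm g *ᵥ act h 0 + act g 0 := by
    rw [key 0, Matrix.mulVec_zero, zero_add]
  have hM : Mm (g * h) = Mm g * Mm h := by
    ext i j
    show act (g * h) (Pi.single j 1) i + act (g * h) 0 i = (Mm g * Mm h) i j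
    rw [key, ← h0, Matrix.mulVec_single_one, Pi.add_apply, add_assoc,
      CharTwo.add_self_eq_zero, add_zero]
    rfl
  refine ⟨fun v => ?_, hM⟩
  rw [key v, hM, h0]

theorem nonsing (A : Matrix.SpecialLinearGroup (Fin 2) (ZMod 7)) (w : V7) (hw : w ≠ 0) :
    A.1 *ᵥ w ≠ 0 := by
  intro h
  apply hw
  have h1 : (A⁻¹).1 *ᵥ (A.1 *ᵥ w) = w := by
    rw [Matrix.mulVec_mulVec, ← Matrix.SpecialLinearGroup.coe_mul, inv_mul_cancel,
      Matrix.SpecialLinearGroup.coe_one, Matrix.one_mulVec]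
  rw [← h1, h, Matrix.mulVec_zero]

theorem aff_all (A : Matrix.SpecialLinearGroup (Fin 2) (ZMod 7)) : Aff A.1 := by
  haveI : Fact (Nat.Prime 7) := ⟨by norm_num⟩
  refine Cfsg.Agent.Lib.Helper2.SLGen.transvection_induction
    (fun A : Matrix.SpecialLinearGroup (Fin 2) (ZMod 7) => Aff A.1) ?_ ?_ A
  · intro i j hij c
    have h1 : (Matrix.SpecialLinearGroup.transvection hij c).1 = Matrix.transvection i j c :=
      Matrix.SpecialLinearGroup.transvection_coe hij c
    show Aff (Matrix.SpecialLinearGroup.transvection hij c).1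
    rw [h1]
    exact d4 i j c hij
  · intro A B hA hB
    exact (aff_mul A.1 B.1 (nonsing B) hA hB).1

theorem Mm_one : Mm (1 : Matrix (Fin 2) (Fin 2) (ZMod 7)) = 1 := by
  have h := d6 1 (one_mul 1)
  rw [one_smul] at h
  exact h

/-- The linear part as a monoid homomorphism. -/
def MH : Matrix.SpecialLinearGroup (Fin 2) (ZMod 7) →* Matrix (Fin 3) (Fin 3) (ZMod 2) where
  toFun A := Mm A.1
  map_one' := Mm_one
  map_mul' A B := (aff_mul A.1 B.1 (nonsing B) (aff_all A) (aff_all B)).2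

section field

variable {F K : Type*} [Field F] [Fintype F] [Field K] [Fintype K]
  (hF : Fintype.card F = 7) (hK : Fintype.card K = 2)

/-- The matrix-valued homomorphism over arbitrary fields of orders seven and two. -/
noncomputable def Phi : Matrix.SpecialLinearGroup (Fin 2) F →* Matrix (Fin 3) (Fin 3) K :=
  ((RingHom.mapMatrix ((ZMod.ringEquivOfPrime K Nat.prime_two hK : ZMod 2 ≃+* K) :
      ZMod 2 →+* K)).toMonoidHom.comp MH).comp
    (Matrix.SpecialLinearGroup.map
      ((ZMod.ringEquivOfPrime F (by norm_num : Nat.Prime 7) hF).symm : F →+* ZMod 7))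

theorem Phi_det (g : Matrix.SpecialLinearGroup (Fin 2) F) : (Phi hF hK g).det = 1 := by
  have h1 : Phi hF hK g * Phi hF hK g⁻¹ = 1 := by
    rw [← map_mul, mul_inv_cancel, map_one]
  have h2 := congrArg Matrix.det h1
  rw [Matrix.det_mul, Matrix.det_one] at h2
  rcases Cfsg.Agent.Lib.Helper2.Ext2.zero_or_one hK (Phi hF hK g).det with h | h
  · rw [h, zero_mul] at h2
    exact absurd h2 zero_ne_one
  · exact h

/-- The homomorphism into `SL₃`. -/
noncomputable def Psi0 : Matrix.SpecialLinearGroup (Fin 2) F →*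
    Matrix.SpecialLinearGroup (Fin 3) K where
  toFun g := ⟨Phi hF hK g, Phi_det hF hK g⟩
  map_one' := Subtype.ext (map_one (Phi hF hK))
  map_mul' g h := Subtype.ext (map_mul (Phi hF hK) g h)

/-- The homomorphism into `PSL₃`. -/
noncomputable def Psi : Matrix.SpecialLinearGroup (Fin 2) F →*
    Matrix.ProjectiveSpecialLinearGroup (Fin 3) K :=
  (QuotientGroup.mk' _).comp (Psi0 hF hK)

theorem center_le_ker :
    Subgroup.center (Matrix.SpecialLinearGroup (Fin 2) F) ≤ (Psi hF hK).ker := by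
  intro z hz
  obtain ⟨r, hr, hz'⟩ := Matrix.SpecialLinearGroup.mem_center_iff.mp hz
  rw [Fintype.card_fin, pow_two] at hr
  rw [MonoidHom.mem_ker]
  have h1 : Psi0 hF hK z = 1 := by
    apply Subtype.ext
    show Phi hF hK z = 1
    have h2 : (Matrix.SpecialLinearGroup.map
        ((ZMod.ringEquivOfPrime F (by norm_num : Nat.Prime 7) hF).symm : F →+* ZMod 7) z).1
        = ((ZMod.ringEquivOfPrime F (by norm_num : Nat.Prime 7) hF).symm r)
          • (1 : Matrix (Fin 2) (Fin 2) (ZMod 7)) := by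
      ext i j
      show (ZMod.ringEquivOfPrime F (by norm_num : Nat.Prime 7) hF).symm (z.1 i j) = _
      rw [← hz']
      fin_cases i <;> fin_cases j <;> simp
    have h3 : MH (Matrix.SpecialLinearGroup.map
        ((ZMod.ringEquivOfPrime F (by norm_num : Nat.Prime 7) hF).symm : F →+* ZMod 7) z) = 1 := by
      show Mm _ = 1
      rw [h2]
      apply d6
      rw [← map_mul, hr, map_one]
    show (RingHom.mapMatrix ((ZMod.ringEquivOfPrime K Nat.prime_two hK : ZMod 2 ≃+* K) :
      ZMod 2 →+* K)) (MH _) = 1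
    rw [h3, map_one]
  show (QuotientGroup.mk (Psi0 hF hK z) : Matrix.ProjectiveSpecialLinearGroup (Fin 3) K) = 1
  rw [h1]
  rfl

/-- The induced homomorphism on `PSL₂`. -/
noncomputable def PsiL : Matrix.ProjectiveSpecialLinearGroup (Fin 2) F →*
    Matrix.ProjectiveSpecialLinearGroup (Fin 3) K :=
  QuotientGroup.lift _ (Psi hF hK) (center_le_ker hF hK)

theorem PsiL_injective : Function.Injective (PsiL hF hK) := by
  have hs : IsSimpleGroup (Matrix.ProjectiveSpecialLinearGroup (Fin 2) F) :=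
    Matrix.ProjectiveSpecialLinearGroup.rank_two_simple
      (by rw [Nat.card_eq_fintype_card, hF]; norm_num)
  rw [← MonoidHom.ker_eq_bot_iff]
  rcases (PsiL hF hK).normal_ker.eq_bot_or_eq_top with h | h
  · exact h
  · exfalso
    have h1 : ((Matrix.SpecialLinearGroup.transvection (F := F)
        (i := (0 : Fin 2)) (j := 1) (by decide) 1 : Matrix.SpecialLinearGroup (Fin 2) F) :
          Matrix.ProjectiveSpecialLinearGroup (Fin 2) F) ∈ (PsiL hF hK).ker := by
      rw [h]
      exact Subgroup.mem_top _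
    have h2 : Psi hF hK (Matrix.SpecialLinearGroup.transvection (F := F)
        (i := (0 : Fin 2)) (j := 1) (by decide) 1) = 1 := MonoidHom.mem_ker.mp h1
    have h3 : Psi0 hF hK (Matrix.SpecialLinearGroup.transvection (F := F)
        (i := (0 : Fin 2)) (j := 1) (by decide) 1)
        ∈ Subgroup.center (Matrix.SpecialLinearGroup (Fin 3) K) :=
      (QuotientGroup.eq_one_iff _).mp h2
    obtain ⟨r, hr, hz⟩ := Matrix.SpecialLinearGroup.mem_center_iff.mp h3
    have hr1 : r = 1 := by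
      rcases Cfsg.Agent.Lib.Helper2.Ext2.zero_or_one hK r with h | h
      · rw [h, Fintype.card_fin, zero_pow (by norm_num)] at hr
        exact absurd hr zero_ne_one
      · exact h
    rw [hr1, map_one] at hz
    have h4 : Phi hF hK (Matrix.SpecialLinearGroup.transvection (F := F)
        (i := (0 : Fin 2)) (j := 1) (by decide) 1) = 1 := hz.symm
    have h5 : (Matrix.SpecialLinearGroup.map
        ((ZMod.ringEquivOfPrime F (by norm_num : Nat.Prime 7) hF).symm : F →+* ZMod 7)
        (Matrix.SpecialLinearGroup.transvection (F := F)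
        (i := (0 : Fin 2)) (j := 1) (by decide) 1)).1
        = Matrix.transvection (0 : Fin 2) 1 (1 : ZMod 7) := by
      ext i j
      show (ZMod.ringEquivOfPrime F (by norm_num : Nat.Prime 7) hF).symm
        ((Matrix.SpecialLinearGroup.transvection (F := F)
        (i := (0 : Fin 2)) (j := 1) (by decide) 1).1 i j) = _
      rw [Matrix.SpecialLinearGroup.transvection_coe]
      fin_cases i <;> fin_cases j <;>
        simp [Matrix.transvection, Matrix.single_apply]
    have h6 : (RingHom.mapMatrix ((ZMod.ringEquivOfPrime K Nat.prime_two hK : ZMod 2 ≃+* K) :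
        ZMod 2 →+* K)) (Mm (Matrix.transvection (0 : Fin 2) 1 (1 : ZMod 7))) = 1 := by
      rw [← h5]
      exact h4
    apply d5
    apply Matrix.map_injective (ZMod.ringEquivOfPrime K Nat.prime_two hK).injective
    show (Mm (Matrix.transvection (0 : Fin 2) 1 (1 : ZMod 7))).map
      (ZMod.ringEquivOfPrime K Nat.prime_two hK) = (1 : Matrix (Fin 3) (Fin 3) (ZMod 2)).map
      (ZMod.ringEquivOfPrime K Nat.prime_two hK)
    rw [Matrix.map_one _ (map_zero _) (map_one _)]
    exact h6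

include hF hK in
theorem card_eq7 : Nat.card (Matrix.ProjectiveSpecialLinearGroup (Fin 2) F)
    = Nat.card (Matrix.ProjectiveSpecialLinearGroup (Fin 3) K) := by
  have h1 := Cfsg.Agent.S0243.result hF 2 (by norm_num)
  have h2 := Cfsg.Agent.S0243.result hK 3 (by norm_num)
  have h3 : ∏ i : Fin 2, (7 ^ 2 - 7 ^ (i : ℕ)) = 2016 := by decide
  have h4 : ∏ i : Fin 3, (2 ^ 3 - 2 ^ (i : ℕ)) = 168 := by decide
  have h5 : Nat.gcd 2 (7 - 1) = 2 := by decide
  have h6 : Nat.gcd 3 (2 - 1) = 1 := by decide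
  rw [h3, h5] at h1
  rw [h4, h6] at h2
  omega

include hF hK in
theorem main7 : Nonempty (Matrix.ProjectiveSpecialLinearGroup (Fin 2) F ≃*
    Matrix.ProjectiveSpecialLinearGroup (Fin 3) K) := by
  classical
  have : Finite (Matrix.ProjectiveSpecialLinearGroup (Fin 2) F) := by
    unfold Matrix.ProjectiveSpecialLinearGroup
    infer_instance
  have hb : Function.Bijective (PsiL hF hK) :=
    (Nat.bijective_iff_injective_and_card _).2 ⟨PsiL_injective hF hK, card_eq7 hF hK⟩
  exact ⟨MulEquiv.ofBijective _ hb⟩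

end field

end Cfsg.Agent.Lib.Helper2.Fano7
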