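import Mathlib

set_option autoImplicit false

namespace Cfsg.Agent.Lib.Helper2.L11Tab

/-- A residue modulo eleven. -/
def z11 (m : ℕ) : ZMod 11 := (⟨m % 11, Nat.mod_lt m (by decide)⟩ : Fin 11)

/-- The table of codes of the images. -/
def tb : Fin 5 → Fin 5 → Fin 5 → Fin 5 → ℕ :=
  ![![![![0, 0, 0, 0, 0], ![0, 0, 0, 0, 0], ![0, 0, 0, 0, 0], ![0, 0, 0, 0, 0], ![0, 0, 0, 0, 0]],
  ![![0, 0, 0, 0, 0], ![0, 0, 0, 0, 0], ![0, 0, 0, 0, 0], ![0, 0, 0, 0, 0], ![5046, 4640, 8863, 5966,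
  9035]], ![![0, 0, 0, 0, 0], ![0, 0, 0, 0, 0], ![440, 2958, 4107, 11744, 12959], ![0, 0, 0, 0, 0],
  ![0, 0, 0, 0, 0]], ![![0, 0, 0, 0, 0], ![0, 0, 0, 0, 0], ![0, 0, 0, 0, 0], ![1012, 3145, 4239,
  10666, 13146], ![0, 0, 0, 0, 0]], ![![0, 0, 0, 0, 0], ![11058, 7069, 10138, 7241, 11464], ![0, 0, 0,
  0, 0], ![0, 0, 0, 0, 0], ![0, 0, 0, 0, 0]]], ![![![0, 1332, 0, 0, 0], ![0, 300, 0, 0, 0], ![0,
  14088, 0, 0, 0], ![0, 11340, 0, 0, 0], ![0, 5148, 0, 0, 0]], ![![0, 5214, 0, 0, 0], ![0, 0, 2745, 0,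
  0], ![0, 0, 0, 4220, 0], ![0, 0, 0, 0, 9783], ![10367, 0, 0, 0, 0]], ![![0, 11659, 0, 0, 0], ![0, 0,
  0, 9134, 0], ![14291, 0, 0, 0, 0], ![0, 0, 3247, 0, 0], ![0, 0, 0, 0, 9849]], ![![0, 13769, 0, 0,
  0], ![0, 0, 0, 0, 7354], ![0, 0, 6841, 0, 0], ![14478, 0, 0, 0, 0], ![0, 0, 0, 4539, 0]], ![![0,
  234, 0, 0, 0], ![12796, 0, 0, 0, 0], ![0, 0, 0, 0, 7420], ![0, 0, 0, 8122, 0], ![0, 0, 3636, 0,
  0]]], ![![![0, 0, 0, 2441, 0], ![0, 0, 0, 2858, 0], ![0, 0, 0, 3848, 0], ![0, 0, 0, 2254, 0], ![0,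
  0, 0, 7519, 0]], ![![0, 0, 0, 7772, 0], ![0, 8351, 0, 0, 0], ![0, 0, 0, 0, 5552], ![0, 0, 582, 0,
  0], ![9962, 0, 0, 0, 0]], ![![0, 0, 0, 2573, 0], ![0, 0, 0, 0, 10466], ![6416, 0, 0, 0, 0], ![0,
  14591, 0, 0, 0], ![0, 0, 835, 0, 0]], ![![0, 0, 0, 3408, 0], ![0, 0, 13937, 0, 0], ![0, 3533, 0, 0,
  0], ![5338, 0, 0, 0, 0], ![0, 0, 0, 0, 5871]], ![![0, 0, 0, 3936, 0], ![11237, 0, 0, 0, 0], ![0, 0,
  14190, 0, 0], ![0, 0, 0, 0, 9454], ![0, 8032, 0, 0, 0]]], ![![![0, 0, 13663, 0, 0], ![0, 0, 8585, 0,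
  0], ![0, 0, 13850, 0, 0], ![0, 0, 12256, 0, 0], ![0, 0, 13246, 0, 0]], ![![0, 0, 12168, 0, 0], ![0,
  0, 0, 0, 6741], ![0, 6650, 0, 0, 0], ![0, 0, 0, 1903, 0], ![4867, 0, 0, 0, 0]], ![![0, 0, 12696, 0,
  0], ![0, 10233, 0, 0, 0], ![9435, 0, 0, 0, 0], ![0, 0, 0, 0, 12571], ![0, 0, 0, 2156, 0]], ![![0, 0,
  13531, 0, 0], ![0, 0, 0, 628, 0], ![0, 0, 0, 0, 1513], ![9567, 0, 0, 0, 0], ![0, 5638, 0, 0, 0]],
  ![![0, 0, 8332, 0, 0], ![6142, 0, 0, 0, 0], ![0, 0, 0, 881, 0], ![0, 10552, 0, 0, 0], ![0, 0, 0, 0,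
  7632]]], ![![![0, 0, 0, 0, 13320], ![0, 0, 0, 0, 10945], ![0, 0, 0, 0, 4764], ![0, 0, 0, 0, 2016],
  ![0, 0, 0, 0, 1163]], ![![0, 0, 0, 0, 1229], ![0, 0, 0, 12347, 0], ![0, 0, 7982, 0, 0], ![0, 8684,
  0, 0, 0], ![3308, 0, 0, 0, 0]], ![![0, 0, 0, 0, 2335], ![0, 0, 11565, 0, 0], ![1626, 0, 0, 0, 0],
  ![0, 0, 0, 9263, 0], ![0, 8750, 0, 0, 0]], ![![0, 0, 0, 0, 4445], ![0, 6255, 0, 0, 0], ![0, 0, 0,
  12857, 0], ![1813, 0, 0, 0, 0], ![0, 0, 6970, 0, 0]], ![![0, 0, 0, 0, 10879], ![5737, 0, 0, 0, 0],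
  ![0, 6321, 0, 0, 0], ![0, 0, 11884, 0, 0], ![0, 0, 0, 12028, 0]]]]

/-- The image matrix, from four coordinates. -/
def F4 (a b c d : ZMod 5) : Fin 2 → Fin 2 → ZMod 11 :=
  fun i j => z11 (tb a b c d / 11 ^ (2 * i.val + j.val))

/-- The determinant in coordinates. -/
def d2 {R : Type*} [CommRing R] (a b c d : R) : R := a * d - b * c

/-- A matrix from four coordinates. -/
def mk4 (a b c d : ZMod 5) : Fin 2 → Fin 2 → ZMod 5 := ![![a, b], ![c, d]]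

/-- The image of a matrix. -/
def Fm (M : Fin 2 → Fin 2 → ZMod 5) : Fin 2 → Fin 2 → ZMod 11 :=
  F4 (M 0 0) (M 0 1) (M 1 0) (M 1 1)

/-- Adding a multiple of a row to another. -/
def ra (i j : Fin 2) (c : ZMod 5) (M : Fin 2 → Fin 2 → ZMod 5) : Fin 2 → Fin 2 → ZMod 5 :=
  fun r s => if r = i then M i s + c * M j s else M r s

/-- The product of two matrices, written out. -/
def mm (A B : Fin 2 → Fin 2 → ZMod 11) : Fin 2 → Fin 2 → ZMod 11 :=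
  fun i j => A i 0 * B 0 j + A i 1 * B 1 j

/-- The identity matrix, in coordinates. -/
def I4 : Fin 2 → Fin 2 → ZMod 5 := mk4 1 0 0 1

theorem t_one : ∀ i j : Fin 2, Fm I4 i j = if i = j then 1 else 0 := by
  decide +kernel

theorem t_neg : ∀ i j : Fin 2, Fm (mk4 4 0 0 4) i j = if i = j then -1 else 0 := by
  decide +kernel

theorem t_mul : ∀ i j : Fin 2, i ≠ j → ∀ c a b c' d : ZMod 5, d2 a b c' d = 1 →
    Fm (ra i j c (mk4 a b c' d)) = mm (Fm (ra i j c I4)) (Fm (mk4 a b c' d)) := by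
  decide +kernel

theorem t_det : ∀ i j : Fin 2, i ≠ j → ∀ c : ZMod 5,
    d2 (Fm (ra i j c I4) 0 0) (Fm (ra i j c I4) 0 1) (Fm (ra i j c I4) 1 0)
      (Fm (ra i j c I4) 1 1) = 1 := by
  decide +kernel

theorem t_ne : Fm (ra 0 1 1 I4) 0 1 ≠ 0 := by
  decide +kernel

theorem t_sq : ∀ r : ZMod 5, r ^ 2 = 1 → r = 1 ∨ r = 4 := by
  decide

end Cfsg.Agent.Lib.Helper2.L11Tab
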