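import Mathlib

set_option autoImplicit false

namespace Cfsg.Agent.Lib.Helper2.U33Tab

/-- The model of the field with nine elements. -/
abbrev R9 : Type := QuadraticAlgebra (ZMod 3) 2 0

/-- A residue modulo three. -/
def z3 (m : ℕ) : ZMod 3 := (⟨m % 3, Nat.mod_lt m (by decide)⟩ : Fin 3)

/-- Decoding of an element of the model. -/
def dec (m : ℕ) : R9 := ⟨z3 m, z3 (m / 3)⟩

/-- The table of codes of the images. -/
def tb : Fin 2 → Fin 2 → Fin 2 → Fin 2 → Fin 2 → Fin 2 → Fin 2 → Fin 2 → Fin 2 → ℕ :=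
  ![![![![![![![![![0, 0], ![0, 0]], ![![0, 0], ![0, 0]]], ![![![0, 0], ![0, 0]], ![![0, 0], ![0,
  0]]]], ![![![![0, 0], ![0, 0]], ![![0, 0], ![0, 0]]], ![![![0, 0], ![0, 0]], ![![0, 0], ![0, 0]]]]],
  ![![![![![0, 0], ![0, 0]], ![![0, 0], ![0, 0]]], ![![![0, 0], ![0, 0]], ![![0, 0], ![0, 0]]]],
  ![![![![0, 0], ![0, 0]], ![![0, 0], ![0, 0]]], ![![![0, 0], ![0, 0]], ![![0, 0], ![0, 0]]]]]],
  ![![![![![![0, 0], ![0, 0]], ![![0, 0], ![0, 0]]], ![![![0, 0], ![0, 0]], ![![0, 0], ![0, 0]]]],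
  ![![![![0, 0], ![0, 0]], ![![544644, 239223644], ![125307236, 354721244]]], ![![![0, 0], ![0, 0]],
  ![![334885936, 1121949], ![178069528, 63355048]]]]], ![![![![![0, 0], ![1180989, 239279116]], ![![0,
  0], ![355052818, 125566288]]], ![![![0, 0], ![334935584, 538164]], ![![0, 0], ![63010586,
  177981044]]]], ![![![![0, 0], ![63386960, 354951628]], ![![177752122, 125532914], ![0, 0]]],
  ![![![0, 0], ![178084424, 125187724]], ![![63127180, 355040840], ![0, 0]]]]]]], ![![![![![![![0, 0],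
  ![0, 0]], ![![0, 0], ![0, 0]]], ![![![0, 0], ![0, 0]], ![![9566829, 55066648], ![305218648,
  182770576]]]], ![![![![0, 0], ![0, 0]], ![![0, 0], ![0, 0]]], ![![![0, 0], ![0, 0]], ![![218036116,
  350271316], ![4901068, 95255964]]]]], ![![![![![0, 4842020], ![0, 305134040]], ![![0, 177551210],
  ![0, 50027508]]], ![![![0, 95206572], ![0, 182528528]], ![![355482322, 0], ![50090058, 0]]]],
  ![![![![0, 218003924], ![0, 9567477]], ![![0, 100357154], ![0, 355253432]]], ![![![0, 350256404],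
  ![0, 55197800]], ![![100252264, 0], ![177539860, 0]]]]]], ![![![![![![0, 0], ![0, 0]], ![![0, 0],
  ![0, 0]]], ![![![0, 0], ![0, 0]], ![![57323636, 43048188], ![26816924, 82460516]]]], ![![![![0, 0],
  ![0, 0]], ![![106055768, 37681616], ![86100005, 93133296]]], ![![![0, 0], ![0, 0]], ![![0, 0], ![0,
  0]]]]], ![![![![![0, 93077712], ![82545244, 0]], ![![0, 62856410], ![99982818, 0]]], ![![![0,
  86106565], ![27058636, 0]], ![![125720578, 0], ![0, 100045656]]]], ![![![![0, 37451584], ![43047468,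
  0]], ![![50401786, 0], ![0, 62822716]]], ![![![0, 106175440], ![57192340, 0]], ![![0, 50296724],
  ![125837264, 0]]]]]]]], ![![![![![![![![0, 0], ![0, 0]], ![![0, 0], ![0, 0]]], ![![![0, 0],
  ![86094918, 95456096]], ![![0, 0], ![36625304, 106460816]]]], ![![![![0, 43053283], ![0, 63660124]],
  ![![0, 36382132], ![0, 52150212]]], ![![![0, 54866628], ![125002040, 0]], ![![0, 106374634],
  ![52218882, 0]]]]], ![![![![![0, 0], ![0, 0]], ![![0, 0], ![0, 0]]], ![![![0, 0], ![27886376,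
  82259138]], ![![0, 0], ![43059845, 54816876]]]], ![![![![0, 28114948], ![0, 98126410]], ![![0,
  86094180], ![0, 125034280]]], ![![![0, 82142380], ![98231480, 0]], ![![0, 95587384], ![63540524,
  0]]]]]], ![![![![![![0, 0], ![0, 0]], ![![0, 0], ![0, 0]]], ![![![0, 0], ![93461548, 4783779]],
  ![![0, 0], ![219039868, 349931716]]]], ![![![![0, 56995128], ![0, 178282852]], ![![350175218, 0],
  ![97854282, 0]]], ![![![0, 9684038], ![354508256, 0]], ![![219125936, 0], ![0, 97922664]]]]],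
  ![![![![![0, 0], ![182853946, 304096636]], ![![0, 0], ![9624988, 56939904]]], ![![![0, 0], ![0, 0]],
  ![![0, 0], ![0, 0]]]], ![![![![0, 304130288], ![52422578, 0]], ![![4784589, 0], ![0, 178513196]]],
  ![![![0, 182865944], ![0, 52527460]], ![![93330404, 0], ![354522520, 0]]]]]]], ![![![![![![![0, 0],
  ![0, 0]], ![![0, 0], ![0, 0]]], ![![![0, 0], ![105844084, 350705912]], ![![183059258, 82014370],
  ![0, 0]]]], ![![![![0, 82672480], ![0, 1076166]], ![![0, 325379128], ![0, 183302728]]], ![![![0,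
  182335628], ![590499, 0]], ![![325310516, 0], ![0, 81928508]]]]], ![![![![![0, 349726754], ![0,
  248848712]], ![![0, 649557], ![0, 105928484]]], ![![![0, 106705306], ![248785924, 0]], ![![1069524,
  0], ![0, 350463904]]]], ![![![![0, 0], ![0, 0]], ![![0, 0], ![0, 0]]], ![![![0, 0], ![349738084,
  106588784]], ![![82791920, 182321380], ![0, 0]]]]]], ![![![![![![0, 0], ![0, 0]], ![![0, 0], ![0,
  0]]], ![![![0, 0], ![37445428, 218062280]], ![![304070474, 28122562], ![0, 0]]]], ![![![![0,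
  27053128], ![0, 334883092]], ![![248851538, 0], ![27878762, 0]]], ![![![0, 305192324], ![239226632,
  0]], ![![0, 248783098], ![304156450, 0]]]]], ![![![![![0, 219066194], ![325376122, 0]], ![![0,
  334938428], ![217977760, 0]]], ![![![0, 36389098], ![0, 325313522]], ![![239276128, 0], ![37687772,
  0]]]], ![![![![0, 0], ![36618338, 219099610]], ![![305160364, 26822432], ![0, 0]]], ![![![0, 0],
  ![0, 0]], ![![0, 0], ![0, 0]]]]]]]]]

/-- The image matrix, from nine coordinates. -/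
def F9 (a b c d e f g h k : ZMod 2) : Fin 3 → Fin 3 → R9 :=
  fun i j => dec (tb a b c d e f g h k / 9 ^ (3 * i.val + j.val))

/-- The determinant in coordinates. -/
def d3 {R : Type*} [CommRing R] (a b c d e f g h k : R) : R :=
  a * e * k - a * f * h - b * d * k + b * f * g + c * d * h - c * e * g

/-- A matrix from nine coordinates. -/
def mk9 (a b c d e f g h k : ZMod 2) : Fin 3 → Fin 3 → ZMod 2 :=
  ![![a, b, c], ![d, e, f], ![g, h, k]]

/-- The image of a matrix. -/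
def Fm (M : Fin 3 → Fin 3 → ZMod 2) : Fin 3 → Fin 3 → R9 :=
  F9 (M 0 0) (M 0 1) (M 0 2) (M 1 0) (M 1 1) (M 1 2) (M 2 0) (M 2 1) (M 2 2)

/-- Adding a row to another. -/
def ra (i j : Fin 3) (M : Fin 3 → Fin 3 → ZMod 2) : Fin 3 → Fin 3 → ZMod 2 :=
  fun r c => if r = i then M i c + M j c else M r c

/-- The product of two matrices, written out. -/
def mm (A B : Fin 3 → Fin 3 → R9) : Fin 3 → Fin 3 → R9 :=
  fun i j => A i 0 * B 0 j + A i 1 * B 1 j + A i 2 * B 2 j

/-- The identity matrix, in coordinates. -/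
def I9 : Fin 3 → Fin 3 → ZMod 2 := mk9 1 0 0 0 1 0 0 0 1

theorem t_one : ∀ i j : Fin 3, Fm I9 i j = if i = j then 1 else 0 := by
  decide +kernel

theorem t_mul : ∀ i j : Fin 3, i ≠ j → ∀ a b c d e f g h k : ZMod 2, d3 a b c d e f g h k = 1 →
    Fm (ra i j (mk9 a b c d e f g h k)) = mm (Fm (ra i j I9)) (Fm (mk9 a b c d e f g h k)) := by
  decide +kernel

theorem t_unit : ∀ i j : Fin 3, i ≠ j → ∀ r s : Fin 3,
    Fm (ra i j I9) 0 r * Fm (ra i j I9) 0 s ^ 3 + Fm (ra i j I9) 1 r * Fm (ra i j I9) 1 s ^ 3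
      + Fm (ra i j I9) 2 r * Fm (ra i j I9) 2 s ^ 3 = if r = s then 1 else 0 := by
  decide +kernel

theorem t_det : ∀ i j : Fin 3, i ≠ j →
    d3 (Fm (ra i j I9) 0 0) (Fm (ra i j I9) 0 1) (Fm (ra i j I9) 0 2)
      (Fm (ra i j I9) 1 0) (Fm (ra i j I9) 1 1) (Fm (ra i j I9) 1 2)
      (Fm (ra i j I9) 2 0) (Fm (ra i j I9) 2 1) (Fm (ra i j I9) 2 2) = 1 := by
  decide +kernel

theorem t_inj : ∀ a b c d e f g h k : ZMod 2, d3 a b c d e f g h k = 1 →
    Fm (mk9 a b c d e f g h k) = Fm I9 → mk9 a b c d e f g h k = I9 := by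
  decide +kernel

theorem t_inv : ∀ a b : ZMod 3, (⟨a, b⟩ : R9) ≠ 0 → ∃ c d : ZMod 3, (⟨a, b⟩ : R9) * ⟨c, d⟩ = 1 := by
  decide +kernel

end Cfsg.Agent.Lib.Helper2.U33Tab
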