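import Mathlib
import Cfsg.Agent.Lib.Helper2.U33Tab

set_option autoImplicit false

namespace Cfsg.Agent.Lib.Helper2.L27Data

open Cfsg.Agent.Lib.Helper2.U33Tab (mk9 d3 ra I9)

/-- The translation of the projective line over seven elements. -/
def sg : Equiv.Perm (Fin 8) :=
  ⟨![1, 2, 3, 4, 5, 6, 0, 7], ![6, 0, 1, 2, 3, 4, 5, 7], by decide, by decide⟩

/-- The doubling map. -/
def ta : Equiv.Perm (Fin 8) :=
  ⟨![0, 2, 4, 6, 1, 3, 5, 7], ![0, 4, 1, 5, 2, 6, 3, 7], by decide, by decide⟩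

/-- An inversion. -/
def t3 : Equiv.Perm (Fin 8) :=
  ⟨![7, 3, 5, 1, 6, 2, 4, 0], ![7, 3, 5, 1, 6, 2, 4, 0], by decide, by decide⟩

/-- Another inversion. -/
def t5 : Equiv.Perm (Fin 8) :=
  ⟨![7, 5, 6, 4, 3, 1, 2, 0], ![7, 5, 6, 4, 3, 1, 2, 0], by decide, by decide⟩

/-- A third inversion. -/
def t6 : Equiv.Perm (Fin 8) :=
  ⟨![7, 6, 3, 2, 5, 4, 1, 0], ![7, 6, 3, 2, 5, 4, 1, 0], by decide, by decide⟩

/-- The affine maps. -/
def A (k b : Fin 7) : Fin 8 → Fin 8 :=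
  fun x => if x.val < 7 then ⟨(k.val * x.val + b.val) % 7, by omega⟩ else 7

/-- The maps determined by a semiconjugation. -/
def B (k : Fin 7) (y0 y7 : Fin 8) : Fin 8 → Fin 8 :=
  fun x => if x = 7 then y7 else (sg ^ (k.val * x.val)) y0

/-- The candidate involutions. -/
def T (c d : Fin 8) : Fin 8 → Fin 8 :=
  ![7, c, (ta ^ 2) c, d, ta c, ta d, (ta ^ 2) d, 0]

theorem B_spec : ∀ k : Fin 7, ∀ y0 y7 : Fin 8,
    (∀ x x' : Fin 8, B k y0 y7 x = B k y0 y7 x' → x = x') → (sg ^ k.val) y7 = y7 →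
      ∃ b : Fin 7, ∀ x, B k y0 y7 x = A k b x := by
  decide +kernel

theorem sg_pow_zero : ∀ x : Fin 8, x ≠ 7 → (sg ^ x.val) 0 = x := by decide +kernel

theorem sg_seven : ∀ x : Fin 8, (sg ^ 7) x = x := by decide +kernel

theorem ta_three : ∀ x : Fin 8, (ta ^ 3) x = x := by decide +kernel

theorem sg_fix : sg 7 = 7 := by decide +kernel

theorem ta_ne : ta 1 ≠ 1 := by decide +kernel

theorem sg_ne : sg 0 ≠ 0 := by decide +kernel

theorem A_form : ∀ k b : Fin 7, (∀ x, (A k b)^[21] x = x) →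
    ∃ j : Fin 3, ∀ x, A k b x = (sg ^ b.val * ta ^ j.val) x := by
  decide +kernel

theorem fix7 : ∀ b : Fin 7, ∀ j : Fin 3, (sg ^ b.val * ta ^ j.val) 7 = 7 := by decide +kernel

theorem fix0 : ∀ b : Fin 7, ∀ j : Fin 3, (sg ^ b.val * ta ^ j.val) 0 = 0 → b = 0 := by
  decide +kernel

theorem cube_sg : ∀ b : Fin 7, (∀ x, ((sg ^ b.val) ^ 3) x = x) → b = 0 := by decide +kernel

theorem T_spec : ∀ c d : Fin 8, (∀ x, T c d (T c d x) = x) → (∀ x, T c d x ≠ x) →
    (∀ x, T c d x = t3 x) ∨ (∀ x, T c d x = t5 x) ∨ (∀ x, T c d x = t6 x) := by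
  decide +kernel

theorem t5_conj : ∀ x : Fin 8, (ta ^ 2 * t5 * ta) x = t3 x := by decide +kernel

theorem t6_conj : ∀ x : Fin 8, (ta * t6 * ta ^ 2) x = t3 x := by decide +kernel

/-- The table of codes of the images. -/
def tb : Fin 2 → Fin 2 → Fin 2 → Fin 2 → Fin 2 → Fin 2 → Fin 2 → Fin 2 → Fin 2 → ℕ :=
  ![![![![![![![![![0, 0], ![0, 0]], ![![0, 0], ![0, 0]]], ![![![0, 0], ![0, 0]], ![![0, 0], ![0,
0]]]], ![![![![0, 0], ![0, 0]], ![![0, 0], ![0, 0]]], ![![![0, 0], ![0, 0]], ![![0, 0], ![0, 0]]]]],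
![![![![![0, 0], ![0, 0]], ![![0, 0], ![0, 0]]], ![![![0, 0], ![0, 0]], ![![0, 0], ![0, 0]]]],
![![![![0, 0], ![0, 0]], ![![0, 0], ![0, 0]]], ![![![0, 0], ![0, 0]], ![![0, 0], ![0, 0]]]]]],
![![![![![![0, 0], ![0, 0]], ![![0, 0], ![0, 0]]], ![![![0, 0], ![0, 0]], ![![0, 0], ![0, 0]]]],
![![![![0, 0], ![0, 0]], ![![9272641, 4108468], ![7347095, 15156267]]], ![![![0, 0], ![0, 0]],
![![1549030, 13228488], ![10643066, 5803805]]]]], ![![![![![0, 0], ![5903919, 10538899]], ![![0, 0],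
![1439921, 13349700]]], ![![![0, 0], ![14969626, 7537789]], ![![0, 0], ![9347534, 4021472]]]],
![![![![0, 0], ![13299937, 1392076]], ![![10687775, 5786235], ![0, 0]]], ![![![0, 0], ![4041030,
9425584]], ![![7401002, 15075221], ![0, 0]]]]]]], ![![![![![![![0, 0], ![0, 0]], ![![0, 0], ![0,
0]]], ![![![0, 0], ![0, 0]], ![![1628130, 5761112], ![12725965, 11109182]]]], ![![![![0, 0], ![0,
0]], ![![0, 0], ![0, 0]]], ![![![0, 0], ![0, 0]], ![![8862343, 15536556], ![3175795, 8309777]]]]],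
![![![![![0, 11504724], ![0, 6152489]], ![![0, 13675459], ![0, 414967]]], ![![![0, 8435189], ![0,
3832514]], ![![7061614, 0], ![16096528, 0]]]], ![![![![0, 7685048], ![0, 15374366]], ![![0,
2324133], ![0, 9977674]]], ![![![0, 1269387], ![0, 12855143]], ![![12388761, 0], ![5169724, 0]]]]]],
![![![![![![0, 0], ![0, 0]], ![![0, 0], ![0, 0]]], ![![![0, 0], ![0, 0]], ![![10392963, 6779220],
![15744169, 2968119]]]], ![![![![0, 0], ![0, 0]], ![![650853, 12101880], ![4346846, 14124810]]],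
![![![0, 0], ![0, 0]], ![![0, 0], ![0, 0]]]]], ![![![![![0, 4487406], ![11744208, 0]], ![![0,
1906485], ![13553218, 0]]], ![![![0, 14522914], ![1033613, 0]], ![![10910872, 0], ![0, 5288318]]]],
![![![![0, 2811655], ![9768563, 0]], ![![7873516, 0], ![0, 14899409]]], ![![![0, 16392537],
![6347964, 0]], ![![0, 9169419], ![3507623, 0]]]]]]]], ![![![![![![![![0, 0], ![0, 0]], ![![0, 0],
![0, 0]]], ![![![0, 0], ![2895165, 15796942]], ![![0, 0], ![10440794, 6743520]]]], ![![![![0,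
16434824], ![0, 3618874]], ![![0, 6365030], ![0, 8942493]]], ![![![0, 2773435], ![14804300, 0]],
![![0, 9743391], ![8096417, 0]]]]], ![![![![![0, 0], ![0, 0]], ![![0, 0], ![0, 0]]], ![![![0, 0],
![14053907, 4441969]], ![![0, 0], ![571823, 12164740]]]], ![![![![0, 4557812], ![0, 13422871]],
![![0, 11789505], ![0, 1977451]]], ![![![0, 14432341], ![5414640, 0]], ![![0, 1012522], ![10831814,
0]]]]]], ![![![![![![0, 0], ![0, 0]], ![![0, 0], ![0, 0]]], ![![![0, 0], ![11157041, 12698287]],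
![![0, 0], ![1808723, 5568388]]]], ![![![![0, 1139551], ![0, 5005217]], ![![13011131, 0],
![12527116, 0]]], ![![![0, 7810817], ![10126039, 0]], ![![15226484, 0], ![0, 2189803]]]]],
![![![![![0, 0], ![8148238, 3313114]], ![![0, 0], ![8741117, 15673952]]], ![![![0, 0], ![0, 0]],
![![0, 0], ![0, 0]]]], ![![![![0, 11334694], ![380282, 0]], ![![6175624, 0], ![0, 13865117]]],
![![![0, 8625386], ![0, 16135238]], ![![3785173, 0], ![6880048, 0]]]]]]], ![![![![![![![0, 0], ![0,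
0]], ![![0, 0], ![0, 0]]], ![![![0, 0], ![6805890, 10282832]], ![![15835701, 3018414], ![0, 0]]]],
![![![![0, 14451948], ![0, 10985779]], ![![0, 5364807], ![0, 945105]]], ![![![0, 4701221],
![1886878, 0]], ![![13505912, 0], ![0, 11661706]]]]], ![![![![![0, 2838360], ![0, 7960589]], ![![0,
14857122], ![0, 9705150]]], ![![![0, 16339715], ![9111529, 0]], ![![3436244, 0], ![0, 6465655]]]],
![![![![0, 0], ![0, 0]], ![![0, 0], ![0, 0]]], ![![![0, 0], ![12136551, 727804]], ![![4390155,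
13911513], ![0, 0]]]]]], ![![![![![![0, 0], ![0, 0]], ![![0, 0], ![0, 0]]], ![![![0, 0], ![5706211,
1766492]], ![![12663609, 11029711], ![0, 0]]]], ![![![![0, 8518230], ![0, 6954437]], ![![16040178,
0], ![3913000, 0]]], ![![![0, 11278834], ![13727336, 0]], ![![0, 442134], ![6243013, 0]]]]],
![![![![![0, 7757967], ![2337692, 0]], ![![0, 10081337], ![15240547, 0]]], ![![![0, 1222585], ![0,
12346019]], ![![5179727, 0], ![12934684, 0]]]], ![![![![0, 0], ![15526021, 8761256]], ![![3397142,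
8258418], ![0, 0]]], ![![![0, 0], ![0, 0]], ![![0, 0], ![0, 0]]]]]]]]]

/-- The image of a matrix, as a map of the eight points. -/
def F9 (a b c d e f g h k : ZMod 2) : Fin 8 → Fin 8 :=
  fun x => ⟨(tb a b c d e f g h k / 8 ^ x.val) % 8, Nat.mod_lt _ (by decide)⟩

/-- The image of a matrix. -/
def Fm (M : Fin 3 → Fin 3 → ZMod 2) : Fin 8 → Fin 8 :=
  F9 (M 0 0) (M 0 1) (M 0 2) (M 1 0) (M 1 1) (M 1 2) (M 2 0) (M 2 1) (M 2 2)

theorem t_one : ∀ x : Fin 8, Fm I9 x = x := by decide +kernel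

theorem t_mul : ∀ i j : Fin 3, i ≠ j → ∀ a b c d e f g h k : ZMod 2, d3 a b c d e f g h k = 1 →
    ∀ x : Fin 8, Fm (ra i j (mk9 a b c d e f g h k)) x
      = Fm (ra i j I9) (Fm (mk9 a b c d e f g h k) x) := by
  decide +kernel

theorem t_inj : ∀ a b c d e f g h k : ZMod 2, d3 a b c d e f g h k = 1 →
    (∀ x : Fin 8, Fm (mk9 a b c d e f g h k) x = x) → mk9 a b c d e f g h k = I9 := by
  decide +kernel

theorem w01 : ∀ x : Fin 8, Fm (ra 0 1 I9) x = (ta * sg * ta * sg * t3 * sg) x := by decide +kernel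

theorem w02 : ∀ x : Fin 8, Fm (ra 0 2 I9) x = (t3) x := by decide +kernel

theorem w10 : ∀ x : Fin 8, Fm (ra 1 0 I9) x = (ta * sg * t3 * sg * ta * sg) x := by decide +kernel

theorem w12 : ∀ x : Fin 8, Fm (ra 1 2 I9) x = (sg * t3 * sg * ta * sg * sg) x := by decide +kernel

theorem w20 : ∀ x : Fin 8, Fm (ra 2 0 I9) x = (t3 * sg * t3 * sg) x := by decide +kernel

theorem w21 : ∀ x : Fin 8, Fm (ra 2 1 I9) x = (sg * t3 * sg * ta * sg * ta) x := by decide +kernel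

end Cfsg.Agent.Lib.Helper2.L27Data
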