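import Mathlib
import Cfsg.Agent.Lib.Helper2.L27Cls

set_option autoImplicit false

namespace Cfsg.Agent.Lib.Helper2.L27Cls

open Cfsg.Agent.Lib.Helper2.U33Tab (mk9 d3 I9 SL32 mk9_eta d3_eq_det one_eq_I9)

/-- A second involution, spanning the first four-group with the central one. -/
def KA1 : M9 := mk9 1 0 1 0 1 0 0 0 1

/-- A second involution, spanning the other four-group with the central one. -/
def KA2 : M9 := mk9 1 0 0 0 1 0 0 1 1

/-- Membership in the four-group spanned by the central involution and `X`. -/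
def inV (X M : M9) : Prop := M = I9 ∨ M = R2 ∨ M = X ∨ M = m2 R2 X

instance (X M : M9) : Decidable (inV X M) := by
  unfold inV
  infer_instance

/-- Conjugation by `C` takes `Y` to a non-identity element of the four-group. -/
def cjV (X C Y : M9) : Prop :=
  m2 C Y = m2 R2 C ∨ m2 C Y = m2 X C ∨ m2 C Y = m2 (m2 R2 X) C

instance (X C Y : M9) : Decidable (cjV X C Y) := by
  unfold cjV
  infer_instance

theorem kl_class : all9 (fun A => m2 A R2 = m2 R2 A → A ≠ I9 → m2 A A = I9 →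
    all9 (fun B => m2 B R2 = m2 R2 B → B ≠ I9 → B ≠ A → m2 B B = I9 → m2 A B = m2 B A →
      (inV KA1 A ∧ inV KA1 B) ∨ (inV KA2 A ∧ inV KA2 B))) := by
  decide +kernel

theorem kl_nc : all9 (fun C => ¬ (cjV KA2 C R2 ∧ cjV KA2 C KA1)) := by
  decide +kernel

theorem kl_nc' : all9 (fun C => ¬ (cjV KA1 C R2 ∧ cjV KA1 C KA2)) := by
  decide +kernel

theorem kl_facts1 : d3 (1 : ZMod 2) 0 1 0 1 0 0 0 1 = 1 ∧ KA1 ≠ I9 ∧ KA1 ≠ R2 ∧
    m2 KA1 KA1 = I9 ∧ m2 R2 KA1 = m2 KA1 R2 ∧ ¬ inV KA2 KA1 := by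
  decide +kernel

theorem kl_facts2 : d3 (1 : ZMod 2) 0 0 0 1 0 0 1 1 = 1 ∧ KA2 ≠ I9 ∧ KA2 ≠ R2 ∧
    m2 KA2 KA2 = I9 ∧ m2 R2 KA2 = m2 KA2 R2 ∧ ¬ inV KA1 KA2 := by
  decide +kernel

theorem R2_sq : m2 R2 R2 = I9 := by
  decide +kernel

/-- The first coordinate of a point of the plane of four points. -/
def pb0 (i : Fin 4) : ZMod 2 := ![0, 1, 0, 1] i

/-- The second coordinate of a point of the plane of four points. -/
def pb1 (i : Fin 4) : ZMod 2 := ![0, 0, 1, 1] i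

/-- The matrix of the affine map of the plane inducing a permutation of its four points. -/
def MA (σ : Equiv.Perm (Fin 4)) : M9 :=
  mk9 1 (pb0 (σ 0)) (pb1 (σ 0)) 0 (pb0 (σ 1) + pb0 (σ 0)) (pb1 (σ 1) + pb1 (σ 0)) 0
    (pb0 (σ 2) + pb0 (σ 0)) (pb1 (σ 2) + pb1 (σ 0))

/-- The symmetric group of degree four, normalizing the first four-group. -/
def FS1 (σ : Equiv.Perm (Fin 4)) : M9 := MA σ⁻¹

/-- A transposition of the coordinates. -/
def psw (i : Fin 3) : Fin 3 := ![1, 0, 2] i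

/-- The symmetric group of degree four, normalizing the other four-group. -/
def FS2 (σ : Equiv.Perm (Fin 4)) : M9 := fun i j => MA σ (psw j) (psw i)

theorem FS1_det : ∀ σ : Equiv.Perm (Fin 4), d3 (FS1 σ 0 0) (FS1 σ 0 1) (FS1 σ 0 2) (FS1 σ 1 0)
    (FS1 σ 1 1) (FS1 σ 1 2) (FS1 σ 2 0) (FS1 σ 2 1) (FS1 σ 2 2) = 1 := by
  decide +kernel

theorem FS1_mul : ∀ σ τ : Equiv.Perm (Fin 4), FS1 (σ * τ) = m2 (FS1 σ) (FS1 τ) := by
  decide +kernel

theorem FS1_inj : ∀ σ : Equiv.Perm (Fin 4), FS1 σ = I9 → σ = 1 := by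
  decide +kernel

theorem FS1_norm : ∀ σ : Equiv.Perm (Fin 4), cjV KA1 (FS1 σ) R2 ∧ cjV KA1 (FS1 σ) KA1 := by
  decide +kernel

theorem FS2_det : ∀ σ : Equiv.Perm (Fin 4), d3 (FS2 σ 0 0) (FS2 σ 0 1) (FS2 σ 0 2) (FS2 σ 1 0)
    (FS2 σ 1 1) (FS2 σ 1 2) (FS2 σ 2 0) (FS2 σ 2 1) (FS2 σ 2 2) = 1 := by
  decide +kernel

theorem FS2_mul : ∀ σ τ : Equiv.Perm (Fin 4), FS2 (σ * τ) = m2 (FS2 σ) (FS2 τ) := by
  decide +kernel

theorem FS2_inj : ∀ σ : Equiv.Perm (Fin 4), FS2 σ = I9 → σ = 1 := by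
  decide +kernel

theorem FS2_norm : ∀ σ : Equiv.Perm (Fin 4), cjV KA2 (FS2 σ) R2 ∧ cjV KA2 (FS2 σ) KA2 := by
  decide +kernel

end Cfsg.Agent.Lib.Helper2.L27Cls
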