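import Mathlib
import Cfsg.Prelude.Def_Involutions

set_option autoImplicit false

namespace Cfsg.Agent.Lib.Helper2.StrEmb

variable {G : Type*} [Group G]

theorem mem_map_conj_iff (H : Subgroup G) (g t : G) :
    t ∈ H.map (MulAut.conj g).toMonoidHom ↔ g⁻¹ * t * g ∈ H := by
  constructor
  · rintro ⟨h, hh, rfl⟩
    have : g⁻¹ * ((MulAut.conj g).toMonoidHom h) * g = h := by
      simp [MulAut.conj_apply]; group
    rw [this]; exact hh
  · intro h
    refine ⟨g⁻¹ * t * g, h, ?_⟩
    simp [MulAut.conj_apply]; group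

/-- A proper subgroup of even order is strongly embedded iff no involution of it lies in a
conjugate by an element outside. -/
theorem se_iff [Finite G] (H : Subgroup G) (hH : H ≠ ⊤) (heven : Even (Nat.card H)) :
    Cfsg.IsStronglyEmbedded H ↔
      ∀ g t : G, orderOf t = 2 → t ∈ H → g⁻¹ * t * g ∈ H → g ∈ H := by
  constructor
  · rintro ⟨-, -, h⟩ g t ht htH hgt
    by_contra hg
    have hodd := h g hg
    have hmem : t ∈ H ⊓ H.map (MulAut.conj g).toMonoidHom :=
      ⟨htH, (mem_map_conj_iff H g t).mpr hgt⟩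
    have hdvd := Subgroup.orderOf_dvd_natCard _ hmem
    rw [ht] at hdvd
    exact (Nat.not_even_iff_odd.mpr hodd) (even_iff_two_dvd.mpr hdvd)
  · intro h
    refine ⟨hH, heven, fun g hg => ?_⟩
    by_contra hodd
    have hev : Even (Nat.card ↥(H ⊓ H.map (MulAut.conj g).toMonoidHom)) :=
      Nat.not_odd_iff_even.mp hodd
    haveI : Fact (Nat.Prime 2) := ⟨Nat.prime_two⟩
    obtain ⟨x, hx⟩ := exists_prime_orderOf_dvd_card' (G := ↥(H ⊓ H.map (MulAut.conj g).toMonoidHom)) 2
      (even_iff_two_dvd.mp hev)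
    have hx' : orderOf (x : G) = 2 := by rw [Subgroup.orderOf_coe]; exact hx
    exact hg (h g x hx' x.2.1 ((mem_map_conj_iff H g x).mp x.2.2))

end Cfsg.Agent.Lib.Helper2.StrEmb
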