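import Mathlib
import Cfsg.Prelude.Def_Classical
import Cfsg.Agent.Lib.Helper2.SLGen
import Cfsg.Agent.Lib.Helper2.Unitary3
import Cfsg.Agent.Lib.Helper2.U33Tab

set_option autoImplicit false

namespace Cfsg.Agent.Lib.Helper2.U33Tab

/-! ### From the table to a homomorphism -/

open Matrix

/-- The special linear group of degree three over two elements. -/
abbrev SL32 : Type := Matrix.SpecialLinearGroup (Fin 3) (ZMod 2)

theorem mm_eq (A B : Matrix (Fin 3) (Fin 3) R9) :
    mm A B = (A * B : Matrix (Fin 3) (Fin 3) R9) := by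
  funext i j
  show A i 0 * B 0 j + A i 1 * B 1 j + A i 2 * B 2 j = (A * B) i j
  rw [Matrix.mul_apply, Fin.sum_univ_three]

theorem mk9_eta (M : Fin 3 → Fin 3 → ZMod 2) :
    mk9 (M 0 0) (M 0 1) (M 0 2) (M 1 0) (M 1 1) (M 1 2) (M 2 0) (M 2 1) (M 2 2) = M := by
  funext i j
  fin_cases i <;> fin_cases j <;> rfl

theorem d3_eq_det {R : Type*} [CommRing R] (M : Matrix (Fin 3) (Fin 3) R) :
    d3 (M 0 0) (M 0 1) (M 0 2) (M 1 0) (M 1 1) (M 1 2) (M 2 0) (M 2 1) (M 2 2) = M.det := by
  rw [Matrix.det_fin_three]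
  rfl

theorem one_eq_I9 :
    ((1 : Matrix (Fin 3) (Fin 3) (ZMod 2)) : Fin 3 → Fin 3 → ZMod 2) = I9 := by
  funext i j
  fin_cases i <;> fin_cases j <;> rfl

theorem tv_eq_ra (i j : Fin 3) (M : Matrix (Fin 3) (Fin 3) (ZMod 2)) :
    ((Matrix.transvection i j 1 * M : Matrix (Fin 3) (Fin 3) (ZMod 2)) :
      Fin 3 → Fin 3 → ZMod 2) = ra i j M := by
  funext r c
  by_cases h : r = i
  · subst h
    show (Matrix.transvection r j 1 * M : Matrix (Fin 3) (Fin 3) (ZMod 2)) r c
      = if r = r then M r c + M j c else M r c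
    rw [if_pos rfl, Matrix.transvection_mul_apply_same, one_mul]
  · show (Matrix.transvection i j 1 * M : Matrix (Fin 3) (Fin 3) (ZMod 2)) r c
      = if r = i then M i c + M j c else M r c
    rw [if_neg h]
    exact Matrix.transvection_mul_apply_of_ne i j r c h 1 M

theorem tv_eq_ra_I9 (i j : Fin 3) :
    ((Matrix.transvection i j 1 : Matrix (Fin 3) (Fin 3) (ZMod 2)) :
      Fin 3 → Fin 3 → ZMod 2) = ra i j I9 := by
  have h := tv_eq_ra i j 1
  rw [mul_one] at h
  exact h.trans (congrArg (ra i j) one_eq_I9)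

/-- The image, as a matrix. -/
def FM (M : Matrix (Fin 3) (Fin 3) (ZMod 2)) : Matrix (Fin 3) (Fin 3) R9 := Fm M

theorem FM_one : FM 1 = 1 := by
  have h : (Fm (1 : Matrix (Fin 3) (Fin 3) (ZMod 2)) : Fin 3 → Fin 3 → R9) = Fm I9 :=
    congrArg Fm one_eq_I9
  funext i j
  rw [Matrix.one_apply]
  exact (congrFun (congrFun h i) j).trans (t_one i j)

theorem FM_tv_mul {i j : Fin 3} (hij : i ≠ j) (B : Matrix (Fin 3) (Fin 3) (ZMod 2))
    (hB : B.det = 1) :
    FM (Matrix.transvection i j 1 * B) = FM (Matrix.transvection i j 1) * FM B := by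
  have h := t_mul i j hij (B 0 0) (B 0 1) (B 0 2) (B 1 0) (B 1 1) (B 1 2) (B 2 0) (B 2 1) (B 2 2)
    (by rw [d3_eq_det]; exact hB)
  rw [mk9_eta B] at h
  have h1 : (Fm (Matrix.transvection i j 1 * B) : Fin 3 → Fin 3 → R9) =
      mm (Fm (Matrix.transvection i j 1)) (Fm B) :=
    (congrArg Fm (tv_eq_ra i j B)).trans
      (h.trans (congrArg (fun X => mm (Fm X) (Fm B)) (tv_eq_ra_I9 i j).symm))
  exact h1.trans (mm_eq _ _)

theorem FM_tv_unit {i j : Fin 3} (hij : i ≠ j) (r s : Fin 3) :
    FM (Matrix.transvection i j 1) 0 r * FM (Matrix.transvection i j 1) 0 s ^ 3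
      + FM (Matrix.transvection i j 1) 1 r * FM (Matrix.transvection i j 1) 1 s ^ 3
      + FM (Matrix.transvection i j 1) 2 r * FM (Matrix.transvection i j 1) 2 s ^ 3
      = if r = s then 1 else 0 := by
  have h := t_unit i j hij r s
  rw [← tv_eq_ra_I9] at h
  exact h

theorem FM_tv_det {i j : Fin 3} (hij : i ≠ j) : (FM (Matrix.transvection i j 1)).det = 1 := by
  have h := t_det i j hij
  rw [← tv_eq_ra_I9] at h
  rw [← d3_eq_det]
  exact h

theorem FM_inj (A : SL32) (h : FM A.1 = 1) : A = 1 := by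
  have h1 := t_inj (A.1 0 0) (A.1 0 1) (A.1 0 2) (A.1 1 0) (A.1 1 1) (A.1 1 2) (A.1 2 0) (A.1 2 1)
    (A.1 2 2) (by rw [d3_eq_det]; exact A.2)
  rw [mk9_eta A.1] at h1
  have h2 : (Fm A.1 : Fin 3 → Fin 3 → R9) = Fm I9 :=
    h.trans (FM_one.symm.trans (congrArg Fm one_eq_I9))
  exact Subtype.ext ((h1 h2).trans one_eq_I9.symm)

section field

open Cfsg.Agent.Lib.Helper2.Unitary

variable {F : Type*} [Field F]

/-- A ring homomorphism out of the model is injective. -/
theorem iota_injective (ι : R9 →+* F) : Function.Injective ι := by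
  rw [injective_iff_map_eq_zero]
  intro x hx
  by_contra hne
  obtain ⟨c, d, hcd⟩ := t_inv x.re x.im hne
  have h1 : ι x * ι ⟨c, d⟩ = 1 := by
    rw [← map_mul]
    exact (congrArg ι hcd).trans (map_one ι)
  rw [hx, zero_mul] at h1
  exact zero_ne_one h1

variable [Fintype F]

/-- Matrices with orthonormal columns preserve the Hermitian form. -/
theorem isU_of_cols (hF : Fintype.card F = 3 ^ 2) (N : Matrix (Fin 3) (Fin 3) F)
    (h : ∀ r s : Fin 3, N 0 r * N 0 s ^ 3 + N 1 r * N 1 s ^ 3 + N 2 r * N 2 s ^ 3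
      = if r = s then 1 else 0) : IsU 3 3 N := by
  intro u v
  have e : ∀ x y : F, (x + y) ^ 3 = x ^ 3 + y ^ 3 := pow_q_add hF
  have h00 := h 0 0
  have h01 := h 0 1
  have h02 := h 0 2
  have h10 := h 1 0
  have h11 := h 1 1
  have h12 := h 1 2
  have h20 := h 2 0
  have h21 := h 2 1
  have h22 := h 2 2
  simp only [Fin.isValue, if_true] at h00 h11 h22
  rw [if_neg (by decide)] at h01 h02 h10 h12 h20 h21
  simp only [Cfsg.hermForm, Matrix.mulVec, dotProduct, Fin.sum_univ_three, e, mul_pow]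
  linear_combination (u 0 * v 0 ^ 3) * h00 + (u 0 * v 1 ^ 3) * h01 + (u 0 * v 2 ^ 3) * h02
    + (u 1 * v 0 ^ 3) * h10 + (u 1 * v 1 ^ 3) * h11 + (u 1 * v 2 ^ 3) * h12
    + (u 2 * v 0 ^ 3) * h20 + (u 2 * v 1 ^ 3) * h21 + (u 2 * v 2 ^ 3) * h22

/-- The table is multiplicative, with unitary values of determinant one. -/
theorem key (hF : Fintype.card F = 3 ^ 2) (ι : R9 →+* F) (A : SL32) :
    (∀ B : SL32, FM (A * B).1 = FM A.1 * FM B.1) ∧ IsU 3 3 ((FM A.1).map ι) ∧
      (FM A.1).det = 1 := by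
  refine Cfsg.Agent.Lib.Helper2.SLGen.transvection_induction
    (fun A : SL32 => (∀ B : SL32, FM (A * B).1 = FM A.1 * FM B.1) ∧
      IsU 3 3 ((FM A.1).map ι) ∧ (FM A.1).det = 1) ?_ ?_ A
  · intro i j hij c
    have hc : c = 0 ∨ c = 1 := by
      revert c
      decide
    rcases hc with rfl | rfl
    · rw [Matrix.SpecialLinearGroup.transvection_coeff_zero]
      refine ⟨fun B => ?_, ?_, ?_⟩
      · rw [one_mul, Matrix.SpecialLinearGroup.coe_one, FM_one, one_mul]
      · rw [Matrix.SpecialLinearGroup.coe_one, FM_one, Matrix.map_one ι (map_zero ι) (map_one ι)]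
        exact isU_one 3 3
      · rw [Matrix.SpecialLinearGroup.coe_one, FM_one, Matrix.det_one]
    · have hT : ((Matrix.SpecialLinearGroup.transvection hij (1 : ZMod 2) : SL32).1 :
          Matrix (Fin 3) (Fin 3) (ZMod 2)) = Matrix.transvection i j 1 := rfl
      refine ⟨fun B => ?_, ?_, ?_⟩
      · rw [Matrix.SpecialLinearGroup.coe_mul, hT]
        exact FM_tv_mul hij B.1 B.2
      · rw [hT]
        apply isU_of_cols hF
        intro r s
        have h := congrArg ι (FM_tv_unit hij r s)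
        simp only [map_add, map_mul, map_pow] at h
        rw [Matrix.map_apply, Matrix.map_apply, Matrix.map_apply, Matrix.map_apply,
          Matrix.map_apply, Matrix.map_apply, h]
        split_ifs
        · exact map_one ι
        · exact map_zero ι
      · rw [hT]
        exact FM_tv_det hij
  · intro A B hA hB
    have hAB : FM (A * B).1 = FM A.1 * FM B.1 := hA.1 B
    refine ⟨fun C => ?_, ?_, ?_⟩
    · rw [mul_assoc, hA.1 (B * C), hB.1 C, hAB, mul_assoc]
    · rw [hAB, Matrix.map_mul]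
      exact isU_mul hA.2.1 hB.2.1
    · rw [hAB, Matrix.det_mul, hA.2.2, hB.2.2, mul_one]

/-- The homomorphism into the special linear group. -/
noncomputable def phi (hF : Fintype.card F = 3 ^ 2) (ι : R9 →+* F) :
    SL32 →* Matrix.SpecialLinearGroup (Fin 3) F where
  toFun A := ⟨(FM A.1).map ι, by
    rw [← RingHom.mapMatrix_apply, ← RingHom.map_det, (key hF ι A).2.2, map_one]⟩
  map_one' := by
    apply Subtype.ext
    show (FM (1 : SL32).1).map ι = 1
    rw [Matrix.SpecialLinearGroup.coe_one, FM_one, Matrix.map_one ι (map_zero ι) (map_one ι)]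
  map_mul' A B := by
    apply Subtype.ext
    show (FM (A * B).1).map ι = (FM A.1).map ι * (FM B.1).map ι
    rw [(key hF ι A).1 B, Matrix.map_mul]

theorem phi_mem (hF : Fintype.card F = 3 ^ 2) (ι : R9 →+* F) (A : SL32) :
    phi hF ι A ∈ Cfsg.SU 3 F 3 :=
  (mem_SU_iff 3 3 _).2 (key hF ι A).2.1

theorem phi_injective (hF : Fintype.card F = 3 ^ 2) (ι : R9 →+* F) :
    Function.Injective (phi hF ι) := by
  rw [injective_iff_map_eq_one]
  intro A hA
  apply FM_inj
  have h1 : ((phi hF ι A).1 : Matrix (Fin 3) (Fin 3) F) = 1 := by rw [hA]; rfl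
  have h2 : (FM A.1).map ι = (1 : Matrix (Fin 3) (Fin 3) R9).map ι := by
    rw [Matrix.map_one ι (map_zero ι) (map_one ι)]
    exact h1
  exact Matrix.map_injective (iota_injective ι) h2

/-- The centre of the special linear group of degree three over two elements is trivial. -/
theorem center_SL32 : Subgroup.center SL32 = ⊥ := by
  rw [eq_bot_iff]
  intro z hz
  rw [Matrix.SpecialLinearGroup.mem_center_iff] at hz
  obtain ⟨r, hr, hz⟩ := hz
  have hall : ∀ r : ZMod 2, r ^ 3 = 1 → r = 1 := by decide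
  have hr1 : r = 1 := hall r (by rw [← hr, Fintype.card_fin])
  rw [Subgroup.mem_bot]
  apply Subtype.ext
  rw [← hz, hr1, map_one, Matrix.SpecialLinearGroup.coe_one]

/-- An embedding of the projective special linear group of degree three over two elements
into the projective special unitary group of degree three over nine elements. -/
theorem exists_emb (hF : Fintype.card F = 9) :
    ∃ θ : Matrix.ProjectiveSpecialLinearGroup (Fin 3) (ZMod 2) →* Cfsg.PSU 3 F 3,
      Function.Injective θ := by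
  classical
  have hF' : Fintype.card F = 3 ^ 2 := by rw [hF]; norm_num
  have : CharP F 3 := charP_of_card_eq_prime_pow hF'
  obtain ⟨u, hu⟩ : IsSquare (-1 : F) :=
    FiniteField.isSquare_neg_one_iff.mpr (by rw [hF]; decide)
  let _ : Algebra (ZMod 3) F := ZMod.algebra F 3
  have h3 : (3 : F) = 0 := by
    have := CharP.cast_eq_zero F 3
    exact_mod_cast this
  have hu2 : u * u = (2 : ZMod 3) • (1 : F) + (0 : ZMod 3) • u := by
    rw [zero_smul, add_zero, Algebra.smul_def, mul_one, map_ofNat, ← hu]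
    linear_combination (-1 : F) * h3
  let ι : R9 →+* F := (QuadraticAlgebra.lift ⟨u, hu2⟩ : R9 →ₐ[ZMod 3] F).toRingHom
  let ψ : SL32 →* ↥(Cfsg.SU 3 F 3) := (phi hF' ι).codRestrict (Cfsg.SU 3 F 3) (phi_mem hF' ι)
  have hψ : Function.Injective ψ := by
    intro A B hAB
    apply phi_injective hF' ι
    exact congrArg Subtype.val hAB
  have hcen : Subgroup.center ↥(Cfsg.SU 3 F 3) = ⊥ := by
    apply Subgroup.eq_bot_of_card_eq
    rw [card_center_SU hF' 3 (by norm_num)]
    decide
  let π : ↥(Cfsg.SU 3 F 3) →* Cfsg.PSU 3 F 3 :=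
    QuotientGroup.mk' (Subgroup.center ↥(Cfsg.SU 3 F 3))
  have hπ : Function.Injective π := by
    rw [← MonoidHom.ker_eq_bot_iff, QuotientGroup.ker_mk', hcen]
  let θ0 : SL32 →* Cfsg.PSU 3 F 3 := π.comp ψ
  have hθ0 : Function.Injective θ0 := hπ.comp hψ
  have hker : ∀ z ∈ Subgroup.center SL32, θ0 z = 1 := by
    intro z hz
    rw [center_SL32, Subgroup.mem_bot] at hz
    rw [hz, map_one]
  refine ⟨QuotientGroup.lift (Subgroup.center SL32) θ0 hker, ?_⟩
  rw [injective_iff_map_eq_one]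
  intro x
  induction x using QuotientGroup.induction_on with
  | H A =>
    intro hA
    change θ0 A = 1 at hA
    have : A = 1 := hθ0 (hA.trans (map_one θ0).symm)
    rw [this]
    rfl

end field

end Cfsg.Agent.Lib.Helper2.U33Tab
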